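import Groth.Agent.Lib.InjHull.Noeth
import Mathlib.Algebra.Module.Torsion.Basic

/-!
The part killed by an ideal of an injective module; localisation of injective hulls.
-/

universe u v

open InjHull

namespace Groth.Agent.Lib.InjHull.Torsion

open Groth.Agent.Lib.InjHull.Basic

variable {R : Type u} [CommRing R]

theorem injective_torsionBy (b : Ideal R) (E : Type u) [AddCommGroup E] [Module R E]
    [Module.Injective R E] : Module.Injective (R ⧸ b) (Submodule.torsionBySet R E (b : Set R)) := by
  refine Module.Baer.injective fun J g => ?_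
  let N : Submodule R (R ⧸ b) := J.restrictScalars R
  let g' : N →ₗ[R] E := (Submodule.torsionBySet R E (b : Set R)).subtype ∘ₗ
    ({ toFun := fun x => g ⟨x.1, x.2⟩, map_add' := fun x y => g.map_add ⟨x.1, x.2⟩ ⟨y.1, y.2⟩,
       map_smul' := fun r x => (g.map_smul_of_tower r ⟨x.1, x.2⟩) } : N →ₗ[R] _)
  obtain ⟨h, hh⟩ := Module.Injective.out N.subtype N.injective_subtype g'
  have hmem : h 1 ∈ Submodule.torsionBySet R E (b : Set R) := by
    rw [Submodule.mem_torsionBySet_iff]
    rintro ⟨a, ha⟩
    rw [← map_smul, show a • (1 : R ⧸ b) = 0 by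
      rw [Algebra.smul_def, Ideal.Quotient.algebraMap_eq, Ideal.Quotient.eq_zero_iff_mem.mpr ha,
        zero_mul], map_zero]
  refine ⟨LinearMap.toSpanSingleton (R ⧸ b) _ ⟨h 1, hmem⟩, fun x hx => ?_⟩
  obtain ⟨r, rfl⟩ := Ideal.Quotient.mk_surjective x
  refine Subtype.ext ?_
  rw [LinearMap.toSpanSingleton_apply]
  have h2 : r • h 1 = (g ⟨Ideal.Quotient.mk b r, hx⟩ : E) := by
    rw [← map_smul, show r • (1 : R ⧸ b) = Ideal.Quotient.mk b r by
      rw [Algebra.smul_def, mul_one]; rfl]
    exact hh ⟨Ideal.Quotient.mk b r, hx⟩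
  exact h2

/-- The `b`-killed part of a hull of a module killed by `b` is its hull over the quotient. -/
theorem torsionBy_isInjectiveHull (b : Ideal R) (M : Type u) [AddCommGroup M] [Module R M]
    [Module (R ⧸ b) M] [IsScalarTower R (R ⧸ b) M] {E : Type u} [AddCommGroup E] [Module R E]
    {f : M →ₗ[R] E} (hf : IsInjectiveHull f) :
    ∃ g : M →ₗ[R ⧸ b] Submodule.torsionBySet R E (b : Set R), IsInjectiveHull g ∧
      ∀ x : M, (g x : E) = f x := by
  have := hf.isInjective
  have hkill : ∀ (a : R), a ∈ b → ∀ m : M, a • m = 0 := fun a ha m => by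
    rw [← algebraMap_smul (R ⧸ b) a m, Ideal.Quotient.algebraMap_eq,
      Ideal.Quotient.eq_zero_iff_mem.mpr ha, zero_smul]
  have hmem : ∀ m : M, f m ∈ Submodule.torsionBySet R E (b : Set R) := fun m => by
    rw [Submodule.mem_torsionBySet_iff]
    rintro ⟨a, ha⟩
    rw [← map_smul, hkill a ha m, map_zero]
  let g0 : M →ₗ[R] Submodule.torsionBySet R E (b : Set R) := f.codRestrict _ hmem
  let g : M →ₗ[R ⧸ b] Submodule.torsionBySet R E (b : Set R) :=
    { toFun := g0, map_add' := g0.map_add, map_smul' := fun c m => by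
        obtain ⟨c, rfl⟩ := Ideal.Quotient.mk_surjective c
        rw [RingHom.id_apply, ← Ideal.Quotient.algebraMap_eq, algebraMap_smul, map_smul,
          algebraMap_smul] }
  refine ⟨g, ⟨(isEssentialInj_iff _).mpr ⟨fun a c h => hf.injective (congrArg Subtype.val h),
    fun x hx => ?_⟩, injective_torsionBy b E⟩, fun x => rfl⟩
  obtain ⟨r, hr0, m, hm⟩ :=
    ((isEssentialInj_iff _).mp hf.toIsEssentialInj).2 x.1 fun h => hx (Subtype.ext h)
  refine ⟨Ideal.Quotient.mk b r, fun h => hr0 ?_, m, Subtype.ext ?_⟩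
  · exact congrArg Subtype.val h
  · exact hm

section Localization

variable [IsNoetherianRing R]

theorem isInjectiveHull_map (S : Submonoid R) {M : Type u} [AddCommGroup M] [Module R M]
    {E : Type u} [AddCommGroup E] [Module R E] {f : M →ₗ[R] E} (hf : IsInjectiveHull f) :
    IsInjectiveHull (LocalizedModule.map S f) := by
  have := hf.isInjective
  refine ⟨(isEssentialInj_iff _).mpr ⟨LocalizedModule.map_injective S f hf.injective, fun z hz => ?_⟩,
    Module.injective_of_isLocalizedModule S (LocalizedModule.mkLinearMap S E)⟩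
  obtain ⟨r, hr0, hr⟩ := Noeth.localized_essential S (LinearMap.range f)
    (((isEssentialInj_iff _).mp hf.toIsEssentialInj).2) z hz
  refine ⟨r, hr0, ?_⟩
  obtain ⟨y, hy, s, hys⟩ := hr
  obtain ⟨m, rfl⟩ := hy
  refine ⟨LocalizedModule.mk m s, ?_⟩
  rw [LocalizedModule.map_mk, ← hys]
  simp [IsLocalizedModule.mk_eq_mk']

theorem injective_smul_of_notMem {p : Ideal R} [p.IsPrime] {E : Type u} [AddCommGroup E]
    [Module R E] {f : (R ⧸ p) →ₗ[R] E} (hf : IsEssentialInj f) {s : R} (hs : s ∉ p) :
    Function.Injective fun x : E => s • x := by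
  have : IsDomain (R ⧸ p) := Ideal.Quotient.isDomain p
  refine injective_of_comp hf (g := LinearMap.lsmul R E s) fun a b h => ?_
  have h1 : s • a = s • b := hf.injective (by simpa using h)
  obtain ⟨a, rfl⟩ := Ideal.Quotient.mk_surjective a
  obtain ⟨b, rfl⟩ := Ideal.Quotient.mk_surjective b
  have e : ∀ x : R, s • Ideal.Quotient.mk p x = Ideal.Quotient.mk p s * Ideal.Quotient.mk p x :=
    fun x => by rw [← map_mul]; rfl
  rw [e, e] at h1
  exact mul_left_cancel₀ (by rwa [ne_eq, Ideal.Quotient.eq_zero_iff_mem]) h1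

theorem bijective_smul_of_notMem {p : Ideal R} [hp : p.IsPrime] {E : Type u} [AddCommGroup E]
    [Module R E] {f : (R ⧸ p) →ₗ[R] E} (hf : IsInjectiveHull f) {s : R} (hs : s ∉ p) :
    Function.Bijective fun x : E => s • x := by
  refine ⟨injective_smul_of_notMem hf.toIsEssentialInj hs, ?_⟩
  let μ := LinearMap.lsmul R E s
  have hμ : Function.Injective μ := injective_smul_of_notMem hf.toIsEssentialInj hs
  obtain ⟨C, hC⟩ := exists_isCompl_range μ hμ hf.isInjective
  rcases (isIndecomposable_of_quotient_prime hf.toIsEssentialInj).2 _ _ hC with h | h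
  · exfalso
    have : Nontrivial (R ⧸ p) := Ideal.Quotient.nontrivial_iff.mpr hp.ne_top
    have := hf.injective.nontrivial
    obtain ⟨x, hx⟩ := exists_ne (0 : E)
    rw [LinearMap.range_eq_bot] at h
    exact hx (hμ (by simp [h]))
  · exact LinearMap.range_eq_top.mp (by rw [← hC.sup_eq_top, h, sup_bot_eq])

end Localization

end Groth.Agent.Lib.InjHull.Torsion
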