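import Groth.Agent.Lib.InjHull.Artinian
import Groth.Agent.Lib.InjHull.Torsion
import Mathlib.RingTheory.Length
import Mathlib.RingTheory.SimpleModule.Basic
import Mathlib.RingTheory.LocalRing.Module

/-!
Matlis duality: the injective hull of a residue field.
-/

universe u v

open InjHull

namespace Groth.Agent.Lib.InjHull.Matlis

open Groth.Agent.Lib.InjHull.Basic Groth.Agent.Lib.InjHull.Artinian

variable {R : Type u} [CommRing R]

section Maximal

variable {m : Ideal R} [hmax : m.IsMaximal] {E : Type u} [AddCommGroup E] [Module R E]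
  {f : (R ⧸ m) →ₗ[R] E}

theorem torsionBy_eq_range (hf : IsEssentialInj f) :
    LocCoh.torsionBy m E = LinearMap.range f := by
  refine le_antisymm (fun x hx => ?_) ?_
  · rcases eq_or_ne x 0 with rfl | h0
    · exact zero_mem _
    obtain ⟨r, hr0, y, hy⟩ := ((isEssentialInj_iff f).mp hf).2 x h0
    have hk : ∀ c ∈ m, c • x = 0 := fun c hc => (Submodule.mem_torsionBySet_iff _ _).mp hx ⟨c, hc⟩
    have hr : r ∉ m := fun h => hr0 (hk r h)
    obtain ⟨s, c, hc, hsc⟩ := hmax.exists_inv hr
    refine ⟨s • y, ?_⟩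
    rw [map_smul, hy, ← mul_smul, ← sub_eq_of_eq_add hsc.symm, sub_smul, one_smul, hk c hc,
      sub_zero]
  · rintro _ ⟨y, rfl⟩
    rw [Submodule.mem_torsionBySet_iff]
    rintro ⟨c, hc⟩
    show c • f y = 0
    obtain ⟨y, rfl⟩ := Ideal.Quotient.mk_surjective y
    rw [← map_smul, show c • Ideal.Quotient.mk m y = 0 by
      rw [Algebra.smul_def, Ideal.Quotient.algebraMap_eq, ← map_mul,
        Ideal.Quotient.eq_zero_iff_mem]
      exact Ideal.mul_mem_right _ _ hc, map_zero]

theorem isSimpleModule_quotient : IsSimpleModule R (R ⧸ m) :=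
  isSimpleModule_iff_isCoatom.mpr (Ideal.isMaximal_def.mp hmax)

theorem isSimpleModule_torsionBy (hf : IsEssentialInj f) :
    IsSimpleModule R (LocCoh.torsionBy m E) := by
  have := isSimpleModule_quotient (m := m)
  rw [torsionBy_eq_range hf]
  exact IsSimpleModule.congr (LinearEquiv.ofInjective f hf.injective).symm

omit hmax in
theorem isPowerTorsion [IsNoetherianRing R] (hf : IsEssentialInj f) :
    LocCoh.IsPowerTorsion m E := by
  intro x
  have h1 : m ≤ (Submodule.span R {x}).annihilator.radical := by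
    intro s hs
    obtain ⟨n, hn⟩ := Noeth.exists_pow_smul_eq_zero_of_essential hf (s := s) (fun y => by
        rw [Algebra.smul_def, Ideal.Quotient.algebraMap_eq, Ideal.Quotient.eq_zero_iff_mem.mpr hs,
          zero_mul]) x
    exact ⟨n, (Submodule.mem_annihilator_span_singleton x _).mpr hn⟩
  obtain ⟨n, hn⟩ := Ideal.exists_pow_le_of_le_radical_of_fg h1 (IsNoetherian.noetherian _)
  exact ⟨n, fun a ha => (Submodule.mem_annihilator_span_singleton x a).mp (hn ha)⟩

theorem isArtinian [IsNoetherianRing R] (hf : IsEssentialInj f) : IsArtinian R E := by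
  have := isSimpleModule_quotient (m := m)
  refine isArtinian_of_torsionBy m (IsNoetherian.noetherian _) E (isPowerTorsion hf) ?_
  rw [torsionBy_eq_range hf]
  have : IsArtinian R (R ⧸ m) := inferInstance
  exact (LinearEquiv.ofInjective f hf.injective).isArtinian_iff.mp this

/-- An element whose annihilator lies in `m` is seen by some map to the hull of `R ⧸ m`. -/
theorem exists_dual_ne_zero (hf : IsInjectiveHull f) {G : Type u} [AddCommGroup G] [Module R G]
    {g : G} (hg : ∀ r : R, r • g = 0 → r ∈ m) : ∃ φ : G →ₗ[R] E, φ g ≠ 0 := by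
  let ρ := LinearMap.toSpanSingleton R G g
  let ι := (LinearMap.ker ρ).liftQ ρ le_rfl
  have hι : Function.Injective ι := by
    rw [← LinearMap.ker_eq_bot]
    exact Submodule.ker_liftQ_eq_bot _ _ _ le_rfl
  let π : (R ⧸ LinearMap.ker ρ) →ₗ[R] E :=
    f ∘ₗ (LinearMap.ker ρ).liftQ (Algebra.linearMap R (R ⧸ m)) (fun r hr => by
      rw [LinearMap.mem_ker, Algebra.linearMap_apply, Ideal.Quotient.algebraMap_eq,
        Ideal.Quotient.eq_zero_iff_mem]
      exact hg r (by simpa [ρ] using hr))
  obtain ⟨φ, hφ⟩ := hf.isInjective.out ι hι π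
  refine ⟨φ, ?_⟩
  have h1 : ι (Submodule.Quotient.mk 1) = g := by show ρ 1 = g; simp [ρ]
  rw [← h1, hφ]
  intro h
  have := hf.injective (h.trans (map_zero f).symm)
  simp at this
  exact hmax.ne_top (Ideal.Quotient.zero_eq_one_iff.mp this.symm)

theorem eq_zero_of_forall_dual [IsLocalRing R] (hf : IsInjectiveHull f) {G : Type u}
    [AddCommGroup G] [Module R G] {g : G} (h : ∀ φ : G →ₗ[R] E, φ g = 0) : g = 0 := by
  by_contra hg
  obtain ⟨φ, hφ⟩ := exists_dual_ne_zero hf (g := g) (fun r hr => by
    rw [IsLocalRing.eq_maximalIdeal hmax]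
    intro hu
    exact hg (hu.smul_eq_zero.mp hr))
  exact hφ (h φ)

theorem applyₗ_injective [IsLocalRing R] (hf : IsInjectiveHull f) (G : Type u) [AddCommGroup G]
    [Module R G] : Function.Injective (LinearMap.applyₗ : G →ₗ[R] (G →ₗ[R] E) →ₗ[R] E) := by
  intro a b h
  rw [← sub_eq_zero]
  refine eq_zero_of_forall_dual hf fun φ => ?_
  rw [map_sub, sub_eq_zero]
  exact LinearMap.congr_fun h φ

theorem annihilator_dual [IsLocalRing R] (hf : IsInjectiveHull f) (G : Type u) [AddCommGroup G]
    [Module R G] : Module.annihilator R G = Module.annihilator R (G →ₗ[R] E) := by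
  ext r
  simp only [Module.mem_annihilator]
  refine ⟨fun h φ => ?_, fun h g => ?_⟩
  · ext g
    rw [LinearMap.smul_apply, ← map_smul, h, map_zero, LinearMap.zero_apply]
  · refine eq_zero_of_forall_dual hf fun φ => ?_
    rw [map_smul, ← LinearMap.smul_apply, h φ, LinearMap.zero_apply]

theorem length_dual_simple [IsLocalRing R] (hf : IsInjectiveHull f) (S : Type u) [AddCommGroup S]
    [Module R S] [IsSimpleModule R S] : Module.length R (S →ₗ[R] E) = 1 := by
  have := isSimpleModule_torsionBy hf.toIsEssentialInj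
  have := IsSimpleModule.nontrivial R S
  obtain ⟨s, hs⟩ := exists_ne (0 : S)
  have hker : ∀ c ∈ m, c • s = 0 := by
    intro c hc
    have hmx := IsSimpleModule.ker_toSpanSingleton_isMaximal R hs
    have : c ∈ LinearMap.ker (LinearMap.toSpanSingleton R S s) := by
      rw [IsLocalRing.eq_maximalIdeal hmx, ← IsLocalRing.eq_maximalIdeal hmax]
      exact hc
    simpa using this
  let T : (S →ₗ[R] E) →ₗ[R] LocCoh.torsionBy m E :=
    (LinearMap.applyₗ s : (S →ₗ[R] E) →ₗ[R] E).codRestrict _ fun φ => by
      rw [Submodule.mem_torsionBySet_iff]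
      rintro ⟨c, hc⟩
      show c • φ s = 0
      rw [← map_smul, hker c hc, map_zero]
  have hTinj : Function.Injective T := by
    intro φ ψ h
    refine LinearMap.ext_on (IsSimpleModule.span_singleton_eq_top R hs) fun x hx => ?_
    rw [Set.mem_singleton_iff.mp hx]
    exact congrArg Subtype.val h
  have hTsurj : Function.Surjective T := by
    refine ((LinearMap.surjective_or_eq_zero T).resolve_right fun h0 => hs ?_)
    exact eq_zero_of_forall_dual hf fun φ => congrArg Subtype.val (LinearMap.congr_fun h0 φ)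
  rw [(LinearEquiv.ofBijective T ⟨hTinj, hTsurj⟩).length_eq, Module.length_eq_one]

omit hmax in
theorem exact_dual {M N P : Type u} [AddCommGroup M] [Module R M]
    [AddCommGroup N] [Module R N] [AddCommGroup P] [Module R P] {i : N →ₗ[R] M} {p : M →ₗ[R] P}
    (hip : Function.Exact i p) (hp : Function.Surjective p) :
    Function.Injective (LinearMap.lcomp R E p) ∧
      Function.Exact (LinearMap.lcomp R E p) (LinearMap.lcomp R E i) := by
  refine ⟨fun φ ψ h => LinearMap.ext fun x => ?_, fun φ => ⟨fun h => ?_, ?_⟩⟩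
  · obtain ⟨x, rfl⟩ := hp x
    exact LinearMap.congr_fun h x
  · have hle : LinearMap.ker p ≤ LinearMap.ker φ := by
      rw [LinearMap.exact_iff.mp hip]
      rintro _ ⟨n, rfl⟩
      exact LinearMap.congr_fun h n
    refine ⟨(LinearMap.ker p).liftQ φ hle ∘ₗ (p.quotKerEquivOfSurjective hp).symm.toLinearMap, ?_⟩
    ext x
    simp
  · rintro ⟨ψ, rfl⟩
    ext n
    simp [hip.apply_apply_eq_zero]

omit hmax in
theorem lcomp_surjective (hf : IsInjectiveHull f) {M N : Type u} [AddCommGroup M] [Module R M]
    [AddCommGroup N] [Module R N] {i : N →ₗ[R] M} (hi : Function.Injective i) :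
    Function.Surjective (LinearMap.lcomp R E i) := fun φ => by
  obtain ⟨ψ, hψ⟩ := hf.isInjective.out i hi φ
  exact ⟨ψ, LinearMap.ext hψ⟩

theorem length_dual [IsLocalRing R] (hf : IsInjectiveHull f) {M : Type u} [AddCommGroup M]
    [Module R M] (hM : IsFiniteLength R M) : Module.length R (M →ₗ[R] E) = Module.length R M := by
  induction hM with
  | of_subsingleton =>
    rw [Module.length_eq_zero, Module.length_eq_zero]
  | @of_simple_quotient M _ _ N hS _ ih =>
    have := hS
    obtain ⟨h1, h2⟩ := exact_dual (E := E) (i := N.subtype) (p := N.mkQ)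
      (LinearMap.exact_subtype_mkQ N) (Submodule.mkQ_surjective N)
    rw [Module.length_eq_add_of_exact _ _ h1 (lcomp_surjective hf N.injective_subtype) h2,
      Module.length_eq_add_of_exact N.subtype N.mkQ N.injective_subtype (Submodule.mkQ_surjective N)
        (LinearMap.exact_subtype_mkQ N), ih, length_dual_simple hf, Module.length_eq_one R (M ⧸ N)]
    exact add_comm _ _

theorem isFiniteLength_dual [IsLocalRing R] (hf : IsInjectiveHull f) {M : Type u} [AddCommGroup M]
    [Module R M] (hM : IsFiniteLength R M) : IsFiniteLength R (M →ₗ[R] E) := by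
  rw [← Module.length_ne_top_iff, length_dual hf hM, Module.length_ne_top_iff]
  exact hM

theorem applyₗ_bijective [IsLocalRing R] (hf : IsInjectiveHull f) {M : Type u} [AddCommGroup M]
    [Module R M] (hM : IsFiniteLength R M) :
    Function.Bijective (LinearMap.applyₗ : M →ₗ[R] (M →ₗ[R] E) →ₗ[R] E) := by
  have h1 := isFiniteLength_dual hf hM
  obtain ⟨_, _⟩ := isFiniteLength_iff_isNoetherian_isArtinian.mp (isFiniteLength_dual hf h1)
  refine ⟨applyₗ_injective hf M, LinearMap.range_eq_top.mp ?_⟩
  by_contra hne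
  have h2 := Submodule.length_lt hne
  rw [← (LinearEquiv.ofInjective _ (applyₗ_injective hf M)).length_eq, length_dual hf h1,
    length_dual hf hM] at h2
  exact lt_irrefl _ h2

theorem isArtinian_dual [IsNoetherianRing R] (hf : IsEssentialInj f) (N : Type u) [AddCommGroup N]
    [Module R N] [Module.Finite R N] : IsArtinian R (N →ₗ[R] E) := by
  have := isArtinian hf
  obtain ⟨n, π, hπ⟩ := Module.Finite.exists_fin' R N
  let Φ : (N →ₗ[R] E) →ₗ[R] (Fin n → E) :=
    LinearMap.pi fun i => LinearMap.applyₗ (π (Pi.single i 1))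
  refine isArtinian_of_injective Φ fun φ ψ h => ?_
  have : φ ∘ₗ π = ψ ∘ₗ π := (Pi.basisFun R (Fin n)).ext fun i => by
    simpa [Φ, Pi.basisFun_apply] using congrFun h i
  refine LinearMap.ext fun x => ?_
  obtain ⟨y, rfl⟩ := hπ x
  exact LinearMap.congr_fun this y

/-- A power torsion module with socle of dimension `n` embeds into the `n`-th power of the hull. -/
theorem exists_embedding_pi (hf : IsInjectiveHull f) {M : Type u} [AddCommGroup M] [Module R M]
    (hM : LocCoh.IsPowerTorsion m M) (n : ℕ) [Module.Finite (R ⧸ m) (LocCoh.torsionBy m M)]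
    (hn : Module.finrank (R ⧸ m) (LocCoh.torsionBy m M) = n) :
    ∃ g : M →ₗ[R] (Fin n → E), Function.Injective g := by
  let : Field (R ⧸ m) := Ideal.Quotient.field m
  let b := Module.finBasisOfFinrankEq (R ⧸ m) (LocCoh.torsionBy m M) hn
  have := hf.isInjective
  choose g hg using fun i : Fin n => Module.Injective.out (LocCoh.torsionBy m M).subtype
    (Submodule.injective_subtype _) (f ∘ₗ (b.coord i).restrictScalars R)
  refine ⟨LinearMap.pi g, (injective_iff_map_eq_zero _).mpr fun x hx => ?_⟩
  by_contra h0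
  obtain ⟨r, hr0, hr⟩ := exists_smul_mem_torsionBy hM h0
  have hall : ∀ i, b.coord i ⟨r • x, hr⟩ = 0 := by
    intro i
    refine hf.injective (a₁ := b.coord i ⟨r • x, hr⟩) (a₂ := 0) ?_
    rw [map_zero]
    have h2 : g i x = 0 := congrFun hx i
    have := hg i ⟨r • x, hr⟩
    simp only [Submodule.subtype_apply, map_smul, h2, smul_zero] at this
    exact this.symm
  exact hr0 (congrArg Subtype.val (b.forall_coord_eq_zero_iff.mp hall))

end Maximal

end Groth.Agent.Lib.InjHull.Matlis
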