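import Groth.Agent.Lib.InjHull.Recognize
import Mathlib.RingTheory.LocalRing.Length
import Mathlib.LinearAlgebra.TensorProduct.Pi
import Mathlib.RingTheory.Flat.Basic

/-!
Flat base change of the injective hull of a residue field.
-/

universe u v

open InjHull TensorProduct

namespace Groth.Agent.Lib.InjHull.BaseChange

open Groth.Agent.Lib.InjHull.Artinian Groth.Agent.Lib.InjHull.Matlis
open Groth.Agent.Lib.InjHull.Complete Groth.Agent.Lib.InjHull.Recognize

/-- Maps out of `R ⧸ J` are the elements killed by `J`. -/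
noncomputable def homQuotientEquiv {R : Type u} [CommRing R] (J : Ideal R) (E : Type v)
    [AddCommGroup E] [Module R E] : ((R ⧸ J) →ₗ[R] E) ≃ₗ[R] LocCoh.torsionBy J E where
  toFun φ := ⟨φ 1, (Submodule.mem_torsionBySet_iff _ _).mpr fun c => by
    show (c : R) • φ 1 = 0
    rw [← map_smul, Algebra.smul_def, Ideal.Quotient.algebraMap_eq,
      Ideal.Quotient.eq_zero_iff_mem.mpr c.2, zero_mul, map_zero]⟩
  map_add' _ _ := rfl
  map_smul' _ _ := rfl
  invFun x := Submodule.liftQ J (LinearMap.toSpanSingleton R E x.1)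
    (fun d hd => by simpa using (Submodule.mem_torsionBySet_iff _ _).mp x.2 ⟨d, hd⟩)
  left_inv φ := Submodule.linearMap_qext _ (LinearMap.ext_ring (by
    show LinearMap.toSpanSingleton R E (φ 1) 1 = φ (Ideal.Quotient.mk J 1)
    simp))
  right_inv x := Subtype.ext (by
    show LinearMap.toSpanSingleton R E x.1 1 = x.1
    simp)

variable {A : Type u} [CommRing A] {B : Type u} [CommRing B] [Algebra A B]
  {E : Type u} [AddCommGroup E] [Module A E]

theorem isPowerTorsion_baseChange {I : Ideal A} (hE : LocCoh.IsPowerTorsion I E) :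
    LocCoh.IsPowerTorsion (I.map (algebraMap A B)) (B ⊗[A] E) := by
  intro t
  induction t using TensorProduct.induction_on with
  | zero => exact ⟨0, fun a _ => smul_zero a⟩
  | tmul b x =>
    obtain ⟨n, hn⟩ := hE x
    refine ⟨n, fun c hc => ?_⟩
    rw [← Ideal.map_pow] at hc
    induction hc using Submodule.span_induction with
    | mem y hy =>
      obtain ⟨a, ha, rfl⟩ := hy
      rw [algebraMap_smul, TensorProduct.smul_tmul', TensorProduct.smul_tmul, hn a ha,
        TensorProduct.tmul_zero]
    | zero => rw [zero_smul]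
    | add y z _ _ hy hz => rw [add_smul, hy, hz, add_zero]
    | smul r y _ hy => rw [smul_eq_mul, mul_smul, hy, smul_zero]
  | add s t hs ht =>
    obtain ⟨i, hi⟩ := hs
    obtain ⟨j, hj⟩ := ht
    exact ⟨max i j, fun c hc => by
      rw [smul_add, hi c (Ideal.pow_le_pow_right (le_max_left i j) hc),
        hj c (Ideal.pow_le_pow_right (le_max_right i j) hc), add_zero]⟩

variable [Module.Flat A B]

/-- Flat base change commutes with the part killed by a finitely generated ideal. -/
theorem nonempty_torsionBy_equiv (I : Ideal A) (hI : I.FG) :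
    Nonempty (B ⊗[A] LocCoh.torsionBy I E ≃ₗ[B]
      LocCoh.torsionBy (I.map (algebraMap A B)) (B ⊗[A] E)) := by
  obtain ⟨s, g, hg⟩ := Submodule.fg_iff_exists_fin_generating_family.mp hI
  let μ : E →ₗ[A] (Fin s → E) := LinearMap.pi fun i => LinearMap.lsmul A E (g i)
  have hgmem : ∀ i, g i ∈ I := fun i => hg ▸ Submodule.subset_span ⟨i, rfl⟩
  have hexact : Function.Exact (LocCoh.torsionBy I E).subtype μ := by
    intro x
    simp only [Submodule.coe_subtype, Set.range, Set.mem_ofPred_eq, Subtype.exists, exists_prop,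
      exists_eq_right]
    constructor
    · intro h
      rw [Submodule.mem_torsionBySet_iff]
      rintro ⟨c, hc⟩
      show c • x = 0
      rw [← hg] at hc
      induction hc using Submodule.span_induction with
      | mem y hy => obtain ⟨i, rfl⟩ := hy; exact congrFun h i
      | zero => exact zero_smul _ _
      | add y z _ _ hy hz => rw [add_smul, hy, hz, add_zero]
      | smul r y _ hy => rw [smul_eq_mul, mul_smul, hy, smul_zero]
    · intro h
      funext i
      exact (Submodule.mem_torsionBySet_iff _ _).mp h ⟨g i, hgmem i⟩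
  let ι : B ⊗[A] LocCoh.torsionBy I E →ₗ[B] B ⊗[A] E := (LocCoh.torsionBy I E).subtype.baseChange B
  have hι : Function.Injective ι :=
    Module.Flat.lTensor_preserves_injective_linearMap (M := B) _ (Submodule.injective_subtype _)
  have hexact' := Module.Flat.lTensor_exact B hexact
  have hμ : ∀ (z : B ⊗[A] E) (i : Fin s),
      TensorProduct.piRight A A B (fun _ : Fin s => E) (μ.lTensor B z) i = g i • z := by
    intro z i
    induction z using TensorProduct.induction_on with
    | zero => simp
    | tmul b x => simp [μ, TensorProduct.piRight_apply, TensorProduct.piRightHom_tmul]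
    | add y z hy hz => simp only [map_add, Pi.add_apply, smul_add, hy, hz]
  have hrange : LinearMap.range ι = LocCoh.torsionBy (I.map (algebraMap A B)) (B ⊗[A] E) := by
    ext z
    rw [Submodule.mem_torsionBySet_iff]
    constructor
    · rintro ⟨w, rfl⟩ ⟨c, hc⟩
      show c • ι w = 0
      have hw : μ.lTensor B (ι w) = 0 := hexact'.apply_apply_eq_zero w
      have hgi : ∀ i, g i • ι w = 0 := fun i => by rw [← hμ (ι w) i, hw, map_zero, Pi.zero_apply]
      rw [← hg] at hc
      rw [Submodule.span, SetLike.mem_coe] at hc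
      change c ∈ Ideal.map (algebraMap A B) (Ideal.span (Set.range g)) at hc
      rw [Ideal.map_span, ← Set.range_comp] at hc
      induction hc using Submodule.span_induction with
      | mem y hy => obtain ⟨i, rfl⟩ := hy; simp only [Function.comp_apply, algebraMap_smul, hgi i]
      | zero => rw [zero_smul]
      | add y z _ _ hy hz => rw [add_smul, hy, hz, add_zero]
      | smul r y _ hy => rw [smul_eq_mul, mul_smul, hy, smul_zero]
    · intro h
      refine (hexact' z).mp ((TensorProduct.piRight A A B (fun _ : Fin s => E)).injective ?_)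
      funext i
      rw [hμ, map_zero, Pi.zero_apply, ← algebraMap_smul B (g i) z]
      exact h ⟨algebraMap A B (g i), Ideal.mem_map_of_mem _ (hgmem i)⟩
  exact ⟨(LinearEquiv.ofInjective ι hι).trans (LinearEquiv.ofEq _ _ hrange)⟩

/-- A flat local base change of the hull with zero dimensional fibre and simple socle is the hull. -/
theorem exists_isInjectiveHull_baseChange [IsLocalRing A] [IsNoetherianRing A] [IsLocalRing B]
    [IsNoetherianRing B] [IsLocalHom (algebraMap A B)] {m : Ideal A} [hm : m.IsMaximal]
    {f : (A ⧸ m) →ₗ[A] E} (hf : IsInjectiveHull f)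
    (hfib : IsLocalRing.maximalIdeal B ≤ (m.map (algebraMap A B)).radical)
    (hsimple : IsSimpleModule B ((B ⧸ IsLocalRing.maximalIdeal B) →ₗ[B] B ⊗[A] E)) :
    ∃ g : (B ⧸ IsLocalRing.maximalIdeal B) →ₗ[B] B ⊗[A] E, IsInjectiveHull g := by
  have hmA : m = IsLocalRing.maximalIdeal A := IsLocalRing.eq_maximalIdeal hm
  have hle : m.map (algebraMap A B) ≤ IsLocalRing.maximalIdeal B := by
    rw [hmA]
    exact IsLocalRing.map_maximalIdeal_le _
  obtain ⟨N, hN⟩ := Ideal.exists_pow_le_of_le_radical_of_fg hfib (IsNoetherian.noetherian _)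
  have htor : LocCoh.IsPowerTorsion (IsLocalRing.maximalIdeal B) (B ⊗[A] E) := fun x => by
    obtain ⟨k, hk⟩ := isPowerTorsion_baseChange (B := B) (isPowerTorsion hf.toIsEssentialInj) x
    refine ⟨N * k, fun c hc => hk c ?_⟩
    rw [pow_mul] at hc
    exact Ideal.pow_right_mono hN k hc
  refine exists_isInjectiveHull_of_lengths _ htor hsimple (fun i => (m ^ i).map (algebraMap A B))
    (fun i => ⟨N * i, ?_⟩) (fun i => ⟨i, ?_⟩) (fun i => ?_)
  · rw [Ideal.map_pow, pow_mul]
    exact Ideal.pow_right_mono hN i
  · rw [Ideal.map_pow]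
    exact Ideal.pow_right_mono hle i
  · obtain ⟨e⟩ := nonempty_torsionBy_equiv (B := B) (E := E) (m ^ i) (IsNoetherian.noetherian _)
    have h1 := LinearEquiv.length_eq (R := B)
      (M := (B ⧸ (m ^ i).map (algebraMap A B)) →ₗ[B] B ⊗[A] E)
      (N := LocCoh.torsionBy ((m ^ i).map (algebraMap A B)) (B ⊗[A] E))
      (homQuotientEquiv _ _)
    have h2 := LinearEquiv.length_eq (R := B) (M := B ⊗[A] LocCoh.torsionBy (m ^ i) E)
      (N := LocCoh.torsionBy ((m ^ i).map (algebraMap A B)) (B ⊗[A] E)) e
    rw [h1, ← h2,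
      (Algebra.TensorProduct.quotIdealMapEquivTensorQuot B (m ^ i)).toLinearEquiv.length_eq,
      IsLocalRing.length_baseChange, IsLocalRing.length_baseChange,
      ← LinearEquiv.length_eq (R := A) (M := (A ⧸ m ^ i) →ₗ[A] E) (N := LocCoh.torsionBy (m ^ i) E)
        (homQuotientEquiv _ _), length_dual hf (isFiniteLength_quotient_pow m i)]

theorem socle_simple_of_fibre [IsLocalRing A] [IsNoetherianRing A] {m : Ideal A} [hm : m.IsMaximal]
    {f : (A ⧸ m) →ₗ[A] E} (hf : IsEssentialInj f) :
    Nonempty ((B ⧸ m.map (algebraMap A B)) ≃ₗ[B]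
      LocCoh.torsionBy (m.map (algebraMap A B)) (B ⊗[A] E)) := by
  obtain ⟨e⟩ := nonempty_torsionBy_equiv (B := B) (E := E) m (IsNoetherian.noetherian _)
  exact ⟨((Algebra.TensorProduct.quotIdealMapEquivTensorQuot B m).toLinearEquiv.trans
    (TensorProduct.AlgebraTensorModule.congr (LinearEquiv.refl B B) ((LinearEquiv.ofInjective f hf.injective).trans
      (LinearEquiv.ofEq _ _ (torsionBy_eq_range hf).symm)))).trans e⟩

end Groth.Agent.Lib.InjHull.BaseChange
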