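import Groth.Prelude.Def_Wider
import Mathlib.Algebra.Category.ModuleCat.EnoughInjectives
import Mathlib.Order.Zorn
import Mathlib.RingTheory.Ideal.AssociatedPrime.Basic
import Mathlib.RingTheory.LocalRing.ResidueField.Ideal
import Mathlib.Algebra.DirectSum.Module

/-!
Injective hulls and indecomposable injective modules.
-/

universe u v

open InjHull

namespace Groth.Agent.Lib.InjHull.Basic

variable {R : Type u} [CommRing R]

section Essential

variable {M : Type v} {E : Type v} [AddCommGroup M] [Module R M] [AddCommGroup E] [Module R E]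

theorem isEssentialInj_iff (f : M →ₗ[R] E) :
    IsEssentialInj f ↔ Function.Injective f ∧
      ∀ x : E, x ≠ 0 → ∃ r : R, r • x ≠ 0 ∧ r • x ∈ LinearMap.range f := by
  constructor
  · rintro ⟨hinj, hess⟩
    refine ⟨hinj, fun x hx => ?_⟩
    obtain ⟨y, ⟨hy1, hy2⟩, hy0⟩ :=
      Submodule.exists_mem_ne_zero_of_ne_bot (hess (Submodule.span R {x}) (by simpa using hx))
    obtain ⟨r, rfl⟩ := Submodule.mem_span_singleton.mp hy1
    exact ⟨r, hy0, hy2⟩
  · rintro ⟨hinj, h⟩
    refine ⟨hinj, fun N hN => ?_⟩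
    obtain ⟨x, hx, hx0⟩ := Submodule.exists_mem_ne_zero_of_ne_bot hN
    obtain ⟨r, hr0, hr⟩ := h x hx0
    intro hb
    have : r • x ∈ N ⊓ LinearMap.range f := ⟨N.smul_mem r hx, hr⟩
    rw [hb] at this
    exact hr0 this

theorem injective_of_comp {E' : Type*} [AddCommGroup E'] [Module R E'] {f : M →ₗ[R] E}
    (hf : IsEssentialInj f) {g : E →ₗ[R] E'} (h : Function.Injective (g ∘ₗ f)) :
    Function.Injective g := by
  rw [← LinearMap.ker_eq_bot]
  by_contra hne
  apply hf.essential _ hne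
  rw [Submodule.eq_bot_iff]
  rintro x ⟨hx, m, rfl⟩
  have : m = 0 := h (by simpa using hx)
  simp [this]

theorem isEssentialInj_comp {E' : Type v} [AddCommGroup E'] [Module R E'] {f : M →ₗ[R] E}
    {g : E →ₗ[R] E'} (hf : IsEssentialInj f) (hg : IsEssentialInj g) :
    IsEssentialInj (g ∘ₗ f) := by
  rw [isEssentialInj_iff] at *
  refine ⟨hg.1.comp hf.1, fun x hx => ?_⟩
  obtain ⟨r, hr0, y, hy⟩ := hg.2 x hx
  obtain ⟨s, hs0, z, hz⟩ := hf.2 y (fun h => hr0 (by rw [← hy, h, map_zero]))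
  refine ⟨s * r, ?_, z, ?_⟩
  · rw [mul_smul, ← hy, ← map_smul]
    exact fun h => hs0 (hg.1 (h.trans (map_zero g).symm))
  · rw [mul_smul, ← hy, LinearMap.comp_apply, hz, map_smul]

theorem isEssentialInj_of_equiv {E' : Type v} [AddCommGroup E'] [Module R E'] {f : M →ₗ[R] E}
    (hf : IsEssentialInj f) (e : E ≃ₗ[R] E') : IsEssentialInj (e.toLinearMap ∘ₗ f) :=
  isEssentialInj_comp hf ((isEssentialInj_iff _).mpr ⟨e.injective, fun x hx =>
    ⟨1, by simpa using hx, by simp⟩⟩)

theorem isEssentialInj_subtype_iff (M' : Submodule R E) :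
    IsEssentialInj M'.subtype ↔ ∀ x : E, x ≠ 0 → ∃ r : R, r • x ≠ 0 ∧ r • x ∈ M' := by
  simp [isEssentialInj_iff]

end Essential

section Hull

variable {M E I : Type u} [AddCommGroup M] [Module R M] [AddCommGroup E] [Module R E]
  [AddCommGroup I] [Module R I]

theorem injective_of_retract (i : E →ₗ[R] I) (p : I →ₗ[R] E) (h : p ∘ₗ i = LinearMap.id)
    (hI : Module.Injective R I) : Module.Injective R E := by
  refine ⟨fun X Y _ _ _ _ f hf g => ?_⟩
  obtain ⟨l, hl⟩ := hI.out f hf (i ∘ₗ g)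
  refine ⟨p ∘ₗ l, fun x => ?_⟩
  rw [LinearMap.comp_apply, hl]
  exact congrArg (fun φ : E →ₗ[R] E => φ (g x)) h

theorem injective_of_equiv (e : I ≃ₗ[R] E) (hI : Module.Injective R I) : Module.Injective R E :=
  injective_of_retract e.symm.toLinearMap e.toLinearMap (by ext; simp) hI

/-- An injective submodule has a complement. -/
theorem exists_isCompl_range (α : E →ₗ[R] I) (hα : Function.Injective α)
    (hE : Module.Injective R E) : ∃ C : Submodule R I, IsCompl (LinearMap.range α) C := by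
  obtain ⟨r, hr⟩ := hE.out α hα LinearMap.id
  refine ⟨LinearMap.ker r, ⟨?_, ?_⟩⟩
  · rw [disjoint_iff, Submodule.eq_bot_iff]
    rintro x ⟨⟨e, rfl⟩, hx⟩
    have : r (α e) = e := hr e
    rw [LinearMap.mem_ker.mp hx] at this
    simp [← this]
  · rw [codisjoint_iff, eq_top_iff]
    intro x _
    have : x = α (r x) + (x - α (r x)) := by abel
    rw [this]
    exact add_mem (Submodule.mem_sup_left ⟨_, rfl⟩)
      (Submodule.mem_sup_right (by simp [LinearMap.mem_ker, hr (r x)]))

/-- A submodule of an injective module with no proper essential extension is injective. -/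
theorem injective_of_no_essential (hI : Module.Injective R I) (E : Submodule R I)
    (hmax : ∀ E' : Submodule R I, E ≤ E' →
      (∀ x ∈ E', x ≠ 0 → ∃ r : R, r • x ≠ 0 ∧ r • x ∈ E) → E' = E) :
    Module.Injective R E := by
  obtain ⟨C, -, hC⟩ := zorn_le_nonempty₀ {C : Submodule R I | Disjoint C E} (fun c hc hchain y hy => by
    refine ⟨sSup c, ?_, fun z hz => le_sSup hz⟩
    rw [Set.mem_ofPred_eq, Submodule.disjoint_def]
    intro x hx hxE
    obtain ⟨z, hz, hxz⟩ := (Submodule.mem_sSup_of_directed ⟨y, hy⟩ hchain.directedOn).mp hx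
    exact Submodule.disjoint_def.mp (hc hz) x hxz hxE) ⊥ disjoint_bot_left
  let j : E →ₗ[R] I ⧸ C := C.mkQ ∘ₗ E.subtype
  have hdisj : Disjoint C E := hC.1
  have hj : Function.Injective j := by
    rw [← LinearMap.ker_eq_bot, Submodule.eq_bot_iff]
    intro x hx
    exact Subtype.ext (Submodule.disjoint_def.mp hdisj x.1
      ((Submodule.Quotient.mk_eq_zero C).mp hx) x.2)
  have hjess : IsEssentialInj j := by
    rw [isEssentialInj_iff]
    refine ⟨hj, fun x hx => ?_⟩
    induction x using Submodule.Quotient.induction_on with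
    | _ y =>
      have hy : y ∉ C := fun h => hx ((Submodule.Quotient.mk_eq_zero C).mpr h)
      have hnd : ¬ Disjoint (C ⊔ Submodule.span R {y}) E := fun h =>
        hy (hC.2 h le_sup_left (Submodule.mem_sup_right (Submodule.mem_span_singleton_self y)))
      rw [Submodule.disjoint_def] at hnd
      push Not at hnd
      obtain ⟨z, hz, hzE, hz0⟩ := hnd
      obtain ⟨c, hc, d, hd, rfl⟩ := Submodule.mem_sup.mp hz
      obtain ⟨r, rfl⟩ := Submodule.mem_span_singleton.mp hd
      have heq : (Submodule.Quotient.mk (c + r • y) : I ⧸ C) = r • Submodule.Quotient.mk y := by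
        rw [Submodule.Quotient.mk_add, (Submodule.Quotient.mk_eq_zero C).mpr hc, zero_add,
          Submodule.Quotient.mk_smul]
      refine ⟨r, fun h0 => hz0 ?_, ⟨⟨c + r • y, hzE⟩, heq⟩⟩
      exact Submodule.disjoint_def.mp hdisj _
        ((Submodule.Quotient.mk_eq_zero C).mp (heq.trans h0)) hzE
  obtain ⟨ψ, hψ⟩ := hI.out j hj E.subtype
  have hψinj : Function.Injective ψ := by
    refine injective_of_comp hjess ?_
    intro a b h
    simpa [hψ] using h
  have hrange : LinearMap.range ψ = E := by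
    refine hmax _ (fun x hx => ⟨j ⟨x, hx⟩, hψ ⟨x, hx⟩⟩) ?_
    rintro _ ⟨y, rfl⟩ hy0
    obtain ⟨r, hr0, e, he⟩ := ((isEssentialInj_iff j).mp hjess).2 y fun h => hy0 (by simp [h])
    refine ⟨r, ?_, ?_⟩
    · rw [← map_smul]
      exact fun h => hr0 (hψinj (h.trans (map_zero ψ).symm))
    · rw [← map_smul, ← he, hψ e]
      exact e.2
  refine injective_of_retract E.subtype ((ψ.codRestrict E fun x => hrange ▸ ⟨x, rfl⟩) ∘ₗ C.mkQ)
    ?_ hI
  ext x
  exact hψ x

theorem exists_max_essential (M' : Submodule R I) :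
    ∃ E : Submodule R I, M' ≤ E ∧ (∀ x ∈ E, x ≠ 0 → ∃ r : R, r • x ≠ 0 ∧ r • x ∈ M') ∧
      ∀ E' : Submodule R I, E ≤ E' →
        (∀ x ∈ E', x ≠ 0 → ∃ r : R, r • x ≠ 0 ∧ r • x ∈ M') → E' = E := by
  obtain ⟨E, hle, hE⟩ := zorn_le_nonempty₀
    {E : Submodule R I | M' ≤ E ∧ ∀ x ∈ E, x ≠ 0 → ∃ r : R, r • x ≠ 0 ∧ r • x ∈ M'}
    (fun c hc hchain y hy => by
      refine ⟨sSup c, ⟨(hc hy).1.trans (le_sSup hy), fun x hx => ?_⟩, fun z hz => le_sSup hz⟩
      obtain ⟨z, hz, hxz⟩ := (Submodule.mem_sSup_of_directed ⟨y, hy⟩ hchain.directedOn).mp hx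
      exact (hc hz).2 x hxz) M' ⟨le_rfl, fun x hx hx0 => ⟨1, by simpa using hx0, by simpa using hx⟩⟩
  exact ⟨E, hle, hE.1.2, fun E' h1 h2 => le_antisymm (hE.2 ⟨hle.trans h1, h2⟩ h1) h1⟩

/-- A hull of a submodule inside a given injective module. -/
theorem exists_hull_le (hI : Module.Injective R I) (M' : Submodule R I) :
    ∃ (E : Submodule R I) (h : M' ≤ E), IsInjectiveHull (Submodule.inclusion h) := by
  obtain ⟨E, hle, hess, hmax⟩ := exists_max_essential M'
  have hinj : Module.Injective R E := by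
    refine injective_of_no_essential hI E fun E' h1 h2 => hmax E' h1 fun x hx hx0 => ?_
    obtain ⟨r, hr0, hr⟩ := h2 x hx hx0
    obtain ⟨s, hs0, hs⟩ := hess _ hr hr0
    exact ⟨s * r, by rwa [mul_smul], by rwa [mul_smul]⟩
  refine ⟨E, hle, ⟨(isEssentialInj_iff _).mpr ⟨Submodule.inclusion_injective hle, fun x hx => ?_⟩,
    hinj⟩⟩
  obtain ⟨r, hr0, hr⟩ := hess x.1 x.2 fun h => hx (Subtype.ext h)
  exact ⟨r, fun h => hr0 (congrArg Subtype.val h), ⟨r • x.1, hr⟩, rfl⟩

theorem exists_injective_embedding (M : Type u) [AddCommGroup M] [Module R M] :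
    ∃ (I : ModuleCat.{u} R) (f : M →ₗ[R] I), Module.Injective R I ∧ Function.Injective f := by
  obtain ⟨p⟩ := CategoryTheory.EnoughInjectives.presentation (ModuleCat.of R M)
  have : CategoryTheory.Injective (ModuleCat.of R p.J) := p.injective
  exact ⟨p.J, p.f.hom, Module.injective_module_of_injective_object R p.J,
    (ModuleCat.mono_iff_injective p.f).mp p.mono⟩

theorem exists_hull (M : Type u) [AddCommGroup M] [Module R M] :
    ∃ (E : Type u) (_ : AddCommGroup E) (_ : Module R E) (f : M →ₗ[R] E), IsInjectiveHull f := by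
  obtain ⟨I, f, hI, hf⟩ := exists_injective_embedding (R := R) M
  obtain ⟨E, hle, hE⟩ := exists_hull_le hI (LinearMap.range f)
  let e := LinearEquiv.ofInjective f hf
  refine ⟨E, inferInstance, inferInstance, Submodule.inclusion hle ∘ₗ e.toLinearMap,
    { isInjective := hE.isInjective, toIsEssentialInj := ?_ }⟩
  refine isEssentialInj_comp ((isEssentialInj_iff _).mpr ⟨e.injective, fun x hx =>
    ⟨1, by simpa using hx, ?_⟩⟩) hE.toIsEssentialInj
  simp

theorem exists_extend {f : M →ₗ[R] E} (hf : IsEssentialInj f) (i : M →ₗ[R] I)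
    (hi : Function.Injective i) (hI : Module.Injective R I) :
    ∃ α : E →ₗ[R] I, Function.Injective α ∧ α ∘ₗ f = i := by
  obtain ⟨α, hα⟩ := hI.out f hf.injective i
  have h : α ∘ₗ f = i := LinearMap.ext hα
  exact ⟨α, injective_of_comp hf (h ▸ hi), h⟩

theorem unique {f : M →ₗ[R] E} (hf : IsInjectiveHull f) {g : M →ₗ[R] I} (hg : IsInjectiveHull g) :
    ∃ e : E ≃ₗ[R] I, e.toLinearMap ∘ₗ f = g := by
  obtain ⟨α, hα, hcomp⟩ := exists_extend hf.toIsEssentialInj g hg.injective hg.isInjective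
  obtain ⟨C, hC⟩ := exists_isCompl_range α hα hf.isInjective
  have hCbot : C = ⊥ := by
    by_contra hne
    apply hg.essential C hne
    rw [Submodule.eq_bot_iff]
    rintro x ⟨hx, m, rfl⟩
    refine Submodule.disjoint_def.mp hC.disjoint _ ⟨f m, ?_⟩ hx
    exact congrArg (fun φ : M →ₗ[R] I => φ m) hcomp
  have hsurj : Function.Surjective α := by
    rw [← LinearMap.range_eq_top, ← hC.sup_eq_top, hCbot, sup_bot_eq]
  exact ⟨LinearEquiv.ofBijective α ⟨hα, hsurj⟩, hcomp⟩

end Hull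

section Indecomposable

variable {E : Type u} [AddCommGroup E] [Module R E]

/-- An indecomposable injective module is uniform. -/
theorem inf_ne_bot_of_indecomposable (hE : IsIndecomposable R E) (hinj : Module.Injective R E)
    {N N' : Submodule R E} (hN : N ≠ ⊥) (hN' : N' ≠ ⊥) : N ⊓ N' ≠ ⊥ := by
  obtain ⟨H, hle, hH⟩ := exists_hull_le hinj N
  obtain ⟨C, hC⟩ := exists_isCompl_range H.subtype H.injective_subtype hH.isInjective
  rw [Submodule.range_subtype] at hC
  rcases hE.2 H C hC with h | h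
  · exact absurd (le_bot_iff.mp (h ▸ hle)) hN
  · have htop : H = ⊤ := by rw [← hC.sup_eq_top, h, sup_bot_eq]
    obtain ⟨x, hx, hx0⟩ := Submodule.exists_mem_ne_zero_of_ne_bot hN'
    obtain ⟨r, hr0, n, hn⟩ := ((isEssentialInj_iff _).mp hH.toIsEssentialInj).2 ⟨x, by simp [htop]⟩
      (fun h => hx0 (congrArg Subtype.val h))
    intro hb
    have : r • x ∈ N ⊓ N' := ⟨by
      have := congrArg Subtype.val hn
      simp only [Submodule.coe_inclusion, SetLike.val_smul] at this
      rw [← this]; exact n.2, N'.smul_mem r hx⟩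
    rw [hb] at this
    exact hr0 (Subtype.ext this)

theorem isIndecomposable_of_uniform [Nontrivial E]
    (h : ∀ N N' : Submodule R E, N ≠ ⊥ → N' ≠ ⊥ → N ⊓ N' ≠ ⊥) : IsIndecomposable R E := by
  refine ⟨inferInstance, fun N N' hc => ?_⟩
  by_contra hne
  push Not at hne
  exact h N N' hne.1 hne.2 hc.inf_eq_bot

theorem exists_prime_zeroDivisors (hE : IsIndecomposable R E) (hinj : Module.Injective R E) :
    ∃ p : Ideal R, p.IsPrime ∧ (p : Set R) = {r : R | ∃ x : E, x ≠ 0 ∧ r • x = 0} := by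
  have := hE.1
  obtain ⟨e, he⟩ := exists_ne (0 : E)
  let p : Ideal R :=
    { carrier := {r : R | ∃ x : E, x ≠ 0 ∧ r • x = 0}
      zero_mem' := ⟨e, he, zero_smul _ _⟩
      add_mem' := by
        rintro a b ⟨x, hx, hax⟩ ⟨y, hy, hby⟩
        obtain ⟨z, ⟨hz1, hz2⟩, hz0⟩ := Submodule.exists_mem_ne_zero_of_ne_bot
          (inf_ne_bot_of_indecomposable hE hinj (N := Submodule.span R {x})
            (N' := Submodule.span R {y}) (by simpa using hx) (by simpa using hy))
        obtain ⟨s, rfl⟩ := Submodule.mem_span_singleton.mp hz1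
        obtain ⟨t, ht⟩ := Submodule.mem_span_singleton.mp hz2
        refine ⟨s • x, hz0, ?_⟩
        rw [add_smul, smul_comm, hax, smul_zero, zero_add, ← ht, smul_comm, hby, smul_zero]
      smul_mem' := by
        rintro c a ⟨x, hx, hax⟩
        exact ⟨x, hx, by rw [smul_eq_mul, mul_smul, hax, smul_zero]⟩ }
  refine ⟨p, ⟨fun h => ?_, fun {a b} hab => ?_⟩, rfl⟩
  · obtain ⟨x, hx, h1⟩ : (1 : R) ∈ p := h ▸ trivial
    exact hx (by simpa using h1)
  · obtain ⟨x, hx, habx⟩ := hab
    by_cases hb : b • x = 0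
    · exact Or.inr ⟨x, hx, hb⟩
    · exact Or.inl ⟨b • x, hb, by rw [← mul_smul]; exact habx⟩

theorem uniform_of_isEssentialInj {M : Type u} [AddCommGroup M] [Module R M] {f : M →ₗ[R] E}
    (hf : IsEssentialInj f)
    (h : ∀ a b : M, a ≠ 0 → b ≠ 0 → ∃ r s : R, r • a = s • b ∧ r • a ≠ 0)
    (N N' : Submodule R E) (hN : N ≠ ⊥) (hN' : N' ≠ ⊥) : N ⊓ N' ≠ ⊥ := by
  obtain ⟨_, ⟨h1, a, rfl⟩, ha⟩ := Submodule.exists_mem_ne_zero_of_ne_bot (hf.essential N hN)
  obtain ⟨_, ⟨h2, b, rfl⟩, hb⟩ := Submodule.exists_mem_ne_zero_of_ne_bot (hf.essential N' hN')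
  obtain ⟨r, s, hrs, hne⟩ := h a b (fun hh => ha (by simp [hh])) (fun hh => hb (by simp [hh]))
  intro hbot
  have : f (r • a) ∈ N ⊓ N' := ⟨by rw [map_smul]; exact N.smul_mem r h1,
    by rw [hrs, map_smul]; exact N'.smul_mem s h2⟩
  rw [hbot] at this
  exact hne (hf.injective (this.trans (map_zero f).symm))

theorem isIndecomposable_of_quotient_prime {p : Ideal R} [hp : p.IsPrime] {f : (R ⧸ p) →ₗ[R] E}
    (hf : IsEssentialInj f) : IsIndecomposable R E := by
  have : Nontrivial (R ⧸ p) := Ideal.Quotient.nontrivial_iff.mpr hp.ne_top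
  have : Nontrivial E := hf.injective.nontrivial
  refine isIndecomposable_of_uniform (uniform_of_isEssentialInj hf fun a b ha hb => ?_)
  obtain ⟨a, rfl⟩ := Ideal.Quotient.mk_surjective a
  obtain ⟨b, rfl⟩ := Ideal.Quotient.mk_surjective b
  have : IsDomain (R ⧸ p) := Ideal.Quotient.isDomain p
  have e : ∀ r x : R, r • (Ideal.Quotient.mk p x) = Ideal.Quotient.mk p r * Ideal.Quotient.mk p x :=
    fun r x => by rw [← map_mul]; rfl
  refine ⟨b, a, by rw [e, e, mul_comm], ?_⟩
  rw [e]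
  exact mul_ne_zero hb ha

theorem exists_hull_residueField {p : Ideal R} [hp : p.IsPrime] {f : (R ⧸ p) →ₗ[R] E}
    (hf : IsInjectiveHull f) : ∃ g : p.ResidueField →ₗ[R] E, IsInjectiveHull g := by
  let ι : (R ⧸ p) →ₗ[R] p.ResidueField := (IsScalarTower.toAlgHom R (R ⧸ p) p.ResidueField).toLinearMap
  have hι : Function.Injective ι := p.injective_algebraMap_quotient_residueField
  have hess : IsEssentialInj ι := by
    rw [isEssentialInj_iff]
    refine ⟨hι, fun x hx => ?_⟩
    obtain ⟨a, b, hb, rfl⟩ := IsFractionRing.div_surjective (A := R ⧸ p) x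
    obtain ⟨b, rfl⟩ := Ideal.Quotient.mk_surjective b
    have hb0 : algebraMap (R ⧸ p) p.ResidueField (Ideal.Quotient.mk p b) ≠ 0 :=
      IsFractionRing.to_map_ne_zero_of_mem_nonZeroDivisors hb
    refine ⟨b, ?_, ⟨a, ?_⟩⟩
    · rw [Algebra.smul_def, IsScalarTower.algebraMap_apply R (R ⧸ p) p.ResidueField]
      exact mul_ne_zero hb0 hx
    · rw [Algebra.smul_def, IsScalarTower.algebraMap_apply R (R ⧸ p) p.ResidueField,
        Ideal.Quotient.algebraMap_eq, mul_div_cancel₀ _ hb0]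
      rfl
  obtain ⟨g, hg, hgf⟩ := exists_extend hess f hf.injective hf.isInjective
  refine ⟨g, ⟨(isEssentialInj_iff _).mpr ⟨hg, fun x hx => ?_⟩, hf.isInjective⟩⟩
  obtain ⟨r, hr0, m, hm⟩ := ((isEssentialInj_iff _).mp hf.toIsEssentialInj).2 x hx
  refine ⟨r, hr0, ι m, ?_⟩
  rw [← hm, ← hgf]
  rfl

end Indecomposable

end Groth.Agent.Lib.InjHull.Basic
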