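import Groth.Agent.Lib.InjHull.Complete

/-!
Recognising the injective hull of a residue field.
-/

universe u v

open InjHull

namespace Groth.Agent.Lib.InjHull.Recognize

open Groth.Agent.Lib.InjHull.Basic Groth.Agent.Lib.InjHull.Artinian Groth.Agent.Lib.InjHull.Matlis
open Groth.Agent.Lib.InjHull.Complete

variable {R : Type u} [CommRing R]

theorem isEssentialInj_of_socle_le {a : Ideal R} {M E : Type v} [AddCommGroup M] [Module R M]
    [AddCommGroup E] [Module R E] {g : M →ₗ[R] E} (hg : Function.Injective g)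
    (htor : LocCoh.IsPowerTorsion a E) (h : LocCoh.torsionBy a E ≤ LinearMap.range g) :
    IsEssentialInj g :=
  (isEssentialInj_iff g).mpr ⟨hg, fun x hx => by
    obtain ⟨r, hr0, hr⟩ := exists_smul_mem_torsionBy htor hx
    exact ⟨r, hr0, h hr⟩⟩

/-- A power torsion module with simple socle is an essential extension of the residue field. -/
theorem exists_essential_of_simple_socle {m : Ideal R} [hmax : m.IsMaximal] (E : Type u)
    [AddCommGroup E] [Module R E] (htor : LocCoh.IsPowerTorsion m E)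
    (hsimple : IsSimpleModule R ((R ⧸ m) →ₗ[R] E)) :
    ∃ φ : (R ⧸ m) →ₗ[R] E, IsEssentialInj φ := by
  have hk : IsSimpleModule R (R ⧸ m) := isSimpleModule_quotient
  have := IsSimpleModule.nontrivial R ((R ⧸ m) →ₗ[R] E)
  obtain ⟨φ, hφ⟩ := exists_ne (0 : (R ⧸ m) →ₗ[R] E)
  refine ⟨φ, isEssentialInj_of_socle_le ((LinearMap.injective_or_eq_zero φ).resolve_right hφ) htor
    fun x hx => ?_⟩
  let ψ : (R ⧸ m) →ₗ[R] E := Submodule.liftQ m (LinearMap.toSpanSingleton R E x)
    (fun d hd => by simpa using (Submodule.mem_torsionBySet_iff _ _).mp hx ⟨d, hd⟩)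
  have : ψ ∈ Submodule.span R {φ} := by rw [IsSimpleModule.span_singleton_eq_top R hφ]; trivial
  obtain ⟨c, hc⟩ := Submodule.mem_span_singleton.mp this
  refine ⟨c • (Ideal.Quotient.mk m 1), ?_⟩
  have h1 := LinearMap.congr_fun hc (Ideal.Quotient.mk m 1)
  rw [LinearMap.smul_apply] at h1
  rw [map_smul, h1]
  show LinearMap.toSpanSingleton R E x 1 = x
  simp

/-- A power torsion module with simple socle and as many maps from the quotients by a cofinal family
of ideals as the hull is the hull. -/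
theorem exists_isInjectiveHull_of_lengths [IsLocalRing R] [IsNoetherianRing R] {m : Ideal R}
    [m.IsMaximal] (I : Type u) [AddCommGroup I] [Module R I] (htor : LocCoh.IsPowerTorsion m I)
    (hsimple : IsSimpleModule R ((R ⧸ m) →ₗ[R] I)) (a : ℕ → Ideal R)
    (hcof : ∀ n : ℕ, ∃ N : ℕ, m ^ N ≤ a n) (hcof' : ∀ N : ℕ, ∃ n : ℕ, a n ≤ m ^ N)
    (hlen : ∀ n : ℕ, Module.length R (R ⧸ a n) = Module.length R ((R ⧸ a n) →ₗ[R] I)) :
    ∃ f : (R ⧸ m) →ₗ[R] I, IsInjectiveHull f := by
  obtain ⟨φ, hφ⟩ := exists_essential_of_simple_socle I htor hsimple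
  obtain ⟨E, _, _, g, hg⟩ := exists_hull (R := R) (R ⧸ m)
  obtain ⟨α, hα, hαφ⟩ := exists_extend hφ g hg.injective hg.isInjective
  have hsurj : Function.Surjective α := by
    intro x
    obtain ⟨N, hN⟩ := isPowerTorsion hg.toIsEssentialInj x
    obtain ⟨n, hn⟩ := hcof' N
    obtain ⟨N', hN'⟩ := hcof n
    have hfl : IsFiniteLength R (R ⧸ a n) := isFiniteLength_of_pow_smul m N' _ fun y c hc => by
      obtain ⟨y, rfl⟩ := Ideal.Quotient.mk_surjective y
      rw [Algebra.smul_def, Ideal.Quotient.algebraMap_eq, ← map_mul, Ideal.Quotient.eq_zero_iff_mem]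
      exact Ideal.mul_mem_right _ _ (hN' hc)
    let c : ((R ⧸ a n) →ₗ[R] I) →ₗ[R] ((R ⧸ a n) →ₗ[R] E) := LinearMap.llcomp R _ _ _ α
    have hc : Function.Injective c := fun ψ χ h =>
      LinearMap.ext fun y => hα (LinearMap.congr_fun h y)
    obtain ⟨_, _⟩ := isFiniteLength_iff_isNoetherian_isArtinian.mp (isFiniteLength_dual hg hfl)
    have hcsurj : Function.Surjective c := by
      rw [← LinearMap.range_eq_top]
      by_contra hne
      have h2 := Submodule.length_lt hne
      rw [← (LinearEquiv.ofInjective c hc).length_eq, ← hlen n, length_dual hg hfl] at h2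
      exact lt_irrefl _ h2
    obtain ⟨ψ, hψ⟩ := hcsurj (Submodule.liftQ (a n) (LinearMap.toSpanSingleton R E x)
      (fun d hd => by simpa using hN d (hn hd)))
    refine ⟨ψ (Ideal.Quotient.mk (a n) 1), ?_⟩
    have h1 := LinearMap.congr_fun hψ (Ideal.Quotient.mk (a n) 1)
    refine h1.trans ?_
    show LinearMap.toSpanSingleton R E x 1 = x
    simp
  exact ⟨φ, ⟨hφ, injective_of_equiv (LinearEquiv.ofBijective α ⟨hα, hsurj⟩).symm hg.isInjective⟩⟩

end Groth.Agent.Lib.InjHull.Recognize
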