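import Groth.Agent.Lib.InjHull.Matlis
import Mathlib.RingTheory.AdicCompletion.Completeness
import Mathlib.RingTheory.AdicCompletion.Algebra
import Mathlib.RingTheory.TensorProduct.Basic

/-!
Matlis duality over a complete local ring; endomorphisms of the hull of the residue field.
-/

universe u v

open InjHull TensorProduct

namespace Groth.Agent.Lib.InjHull.Complete

open Groth.Agent.Lib.InjHull.Artinian Groth.Agent.Lib.InjHull.Matlis

variable {R : Type u} [CommRing R]

theorem isFiniteLength_of_pow_smul [IsNoetherianRing R] (m : Ideal R) [m.IsMaximal] (n : ℕ)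
    (M : Type v) [AddCommGroup M] [Module R M] [Module.Finite R M]
    (h : ∀ x : M, ∀ c ∈ m ^ n, c • x = 0) : IsFiniteLength R M :=
  isFiniteLength_iff_isNoetherian_isArtinian.mpr ⟨inferInstance,
    isArtinian_of_isPowerTorsion_of_isNoetherian m (IsNoetherian.noetherian _) M
      fun x => ⟨n, h x⟩⟩

theorem isFiniteLength_quotient_pow [IsNoetherianRing R] (m : Ideal R) [m.IsMaximal] (n : ℕ) :
    IsFiniteLength R (R ⧸ m ^ n) :=
  isFiniteLength_of_pow_smul m n _ fun x c hc => by
    obtain ⟨x, rfl⟩ := Ideal.Quotient.mk_surjective x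
    rw [Algebra.smul_def, Ideal.Quotient.algebraMap_eq, ← map_mul, Ideal.Quotient.eq_zero_iff_mem]
    exact Ideal.mul_mem_right _ _ hc

section Local

variable [IsLocalRing R] {m : Ideal R} [hmax : m.IsMaximal] {E : Type u} [AddCommGroup E]
  [Module R E] {f : (R ⧸ m) →ₗ[R] E}

/-- An endomorphism of the hull is a scalar on each part killed by a power of `m`. -/
theorem exists_smul_eq [IsNoetherianRing R] (hf : IsInjectiveHull f) (φ : E →ₗ[R] E) (n : ℕ) :
    ∃ a : R, ∀ x : E, (∀ c ∈ m ^ n, c • x = 0) → φ x = a • x := by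
  obtain ⟨-, hsurj⟩ := applyₗ_bijective hf (isFiniteLength_quotient_pow m n)
  obtain ⟨c, hc⟩ := hsurj (φ ∘ₗ LinearMap.applyₗ (1 : R ⧸ m ^ n))
  obtain ⟨a, rfl⟩ := Ideal.Quotient.mk_surjective c
  refine ⟨a, fun x hx => ?_⟩
  let ψ : (R ⧸ m ^ n) →ₗ[R] E :=
    Submodule.liftQ (m ^ n) (LinearMap.toSpanSingleton R E x) (fun d hd => by simpa using hx d hd)
  have h1 : ψ 1 = x := by
    show LinearMap.toSpanSingleton R E x 1 = x
    simp
  have h2 := LinearMap.congr_fun hc ψ
  simp only [LinearMap.comp_apply, LinearMap.applyₗ_apply_apply, h1] at h2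
  rw [← h2]
  rfl

theorem mem_pow_of_forall_smul_eq_zero (hf : IsInjectiveHull f) {n : ℕ} {a : R}
    (h : ∀ x : E, (∀ c ∈ m ^ n, c • x = 0) → a • x = 0) : a ∈ m ^ n := by
  rw [← Ideal.Quotient.eq_zero_iff_mem]
  refine eq_zero_of_forall_dual hf fun φ => ?_
  have h1 : Ideal.Quotient.mk (m ^ n) a = a • (1 : R ⧸ m ^ n) := by
    rw [Algebra.smul_def, Ideal.Quotient.algebraMap_eq, mul_one]
  rw [h1, map_smul]
  refine h _ fun c hc => ?_
  rw [← map_smul, Algebra.smul_def, Ideal.Quotient.algebraMap_eq, mul_one,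
    Ideal.Quotient.eq_zero_iff_mem.mpr hc, map_zero]

theorem exists_seq [IsNoetherianRing R] (hf : IsInjectiveHull f) (φ : E →ₗ[R] E) :
    ∃ a : ℕ → R, (∀ n, ∀ x : E, (∀ c ∈ m ^ n, c • x = 0) → φ x = a n • x) ∧
      ∀ {i j}, i ≤ j → a i ≡ a j [SMOD (m ^ i • ⊤ : Submodule R R)] := by
  choose a ha using exists_smul_eq hf φ
  refine ⟨a, ha, fun {i j} hij => ?_⟩
  rw [SModEq.sub_mem, smul_eq_mul, Ideal.mul_top]
  refine mem_pow_of_forall_smul_eq_zero hf fun x hx => ?_
  rw [sub_smul, ← ha i x hx, ← ha j x (fun c hc => hx c (Ideal.pow_le_pow_right hij hc)), sub_self]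

theorem exists_smul_eq_of_isPrecomplete [IsNoetherianRing R] [IsPrecomplete m R]
    (hf : IsInjectiveHull f) (φ : E →ₗ[R] E) : ∃ a : R, ∀ x : E, φ x = a • x := by
  obtain ⟨a, ha, hcompat⟩ := exists_seq hf φ
  obtain ⟨L, hL⟩ := IsPrecomplete.prec (I := m) inferInstance hcompat
  refine ⟨L, fun x => ?_⟩
  obtain ⟨n, hn⟩ := isPowerTorsion hf.toIsEssentialInj x
  have h1 : a n - L ∈ m ^ n := by
    have := hL n
    rwa [SModEq.sub_mem, smul_eq_mul, Ideal.mul_top] at this
  rw [ha n x hn, ← sub_eq_zero, ← sub_smul, hn _ h1]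

theorem applyₗ_bijective_of_finite [IsNoetherianRing R] [IsPrecomplete m R]
    (hf : IsInjectiveHull f) (M : Type u) [AddCommGroup M] [Module R M] [Module.Finite R M] :
    Function.Bijective (LinearMap.applyₗ : M →ₗ[R] (M →ₗ[R] E) →ₗ[R] E) := by
  refine ⟨applyₗ_injective hf M, fun Φ => ?_⟩
  obtain ⟨t, π, hπ⟩ := Module.Finite.exists_fin' R M
  obtain ⟨Ψ, hΨ⟩ := hf.isInjective.out (LinearMap.lcomp R E π)
    (fun φ ψ h => LinearMap.ext fun y => by
      obtain ⟨y, rfl⟩ := hπ y
      exact LinearMap.congr_fun h y) Φ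
  choose a ha using fun i : Fin t => exists_smul_eq_of_isPrecomplete hf
    ({ toFun := fun x => Ψ ((LinearMap.toSpanSingleton R E x) ∘ₗ LinearMap.proj i)
       map_add' := fun x y => by
        rw [← map_add]; congr 1; ext; simp
       map_smul' := fun r x => by
        rw [RingHom.id_apply, ← map_smul]; congr 1; ext; simp [smul_comm r] } : E →ₗ[R] E)
  refine ⟨π a, LinearMap.ext fun ψ => ?_⟩
  show ψ (π a) = Φ ψ
  rw [← hΨ ψ, LinearMap.lcomp_apply']
  have hsum : ψ ∘ₗ π = ∑ i : Fin t,
      (LinearMap.toSpanSingleton R E (ψ (π (Pi.single i 1)))) ∘ₗ LinearMap.proj i := by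
    refine (Pi.basisFun R (Fin t)).ext fun j => ?_
    simp [Pi.basisFun_apply, Pi.single_apply]
  rw [hsum, map_sum]
  conv_lhs => rw [← Finset.univ_sum_single a, map_sum, map_sum]
  refine Finset.sum_congr rfl fun i _ => ?_
  have h1 : Pi.single i (a i) = a i • (Pi.single i (1 : R) : Fin t → R) := by
    rw [← Pi.single_smul', smul_eq_mul, mul_one]
  rw [h1, map_smul, map_smul]
  exact (ha i (ψ (π (Pi.single i 1)))).symm

theorem finite_dual_of_isArtinian [IsNoetherianRing R] [IsPrecomplete m R]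
    (hf : IsInjectiveHull f) (M : Type u) [AddCommGroup M] [Module R M] [IsArtinian R M] :
    Module.Finite R (M →ₗ[R] E) ∧
      Function.Bijective (LinearMap.applyₗ : M →ₗ[R] (M →ₗ[R] E) →ₗ[R] E) := by
  have hm : m = IsLocalRing.maximalIdeal R := IsLocalRing.eq_maximalIdeal hmax
  have htor : LocCoh.IsPowerTorsion m M := hm ▸ isPowerTorsion_of_isArtinian M
  have : Module.Finite (R ⧸ m) (LocCoh.torsionBy m M) :=
    (isArtinian_torsionBy_iff m M).mp inferInstance
  obtain ⟨n, hn⟩ : ∃ n, Module.finrank (R ⧸ m) (LocCoh.torsionBy m M) = n := ⟨_, rfl⟩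
  obtain ⟨g, hg⟩ := exists_embedding_pi hf htor n hn
  have hrep : ∀ h : (Fin n → E) →ₗ[R] E, ∃ c : Fin n → R,
      h = ∑ i, c i • LinearMap.proj i := by
    intro h
    choose c hc using fun i : Fin n =>
      exists_smul_eq_of_isPrecomplete hf (h ∘ₗ LinearMap.single R (fun _ => E) i)
    refine ⟨c, LinearMap.pi_ext fun i x => ?_⟩
    have := hc i x
    simp only [LinearMap.comp_apply, LinearMap.coe_single] at this
    rw [this]
    simp [Pi.single_apply]
  constructor
  · let T : (Fin n → R) →ₗ[R] (M →ₗ[R] E) :=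
      Fintype.linearCombination R (fun i => LinearMap.proj i ∘ₗ g)
    refine Module.Finite.of_surjective T fun ψ => ?_
    obtain ⟨h, hh⟩ := lcomp_surjective hf hg ψ
    obtain ⟨c, hc⟩ := hrep h
    refine ⟨c, ?_⟩
    rw [← hh, hc]
    ext x
    simp [T, Fintype.linearCombination_apply]
  · refine ⟨applyₗ_injective hf M, fun Φ => ?_⟩
    let Ψ := Φ ∘ₗ LinearMap.lcomp R E g
    let y : Fin n → E := fun i => Ψ (LinearMap.proj i)
    have hy : ∀ h : (Fin n → E) →ₗ[R] E, Ψ h = h y := by
      intro h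
      obtain ⟨c, rfl⟩ := hrep h
      simp [y, map_sum]
    have hrange : y ∈ LinearMap.range g := by
      rw [← Submodule.Quotient.mk_eq_zero]
      refine eq_zero_of_forall_dual hf fun θ => ?_
      show (θ ∘ₗ (LinearMap.range g).mkQ) y = 0
      rw [← hy]
      show Φ ((θ ∘ₗ (LinearMap.range g).mkQ) ∘ₗ g) = 0
      rw [show (θ ∘ₗ (LinearMap.range g).mkQ) ∘ₗ g = 0 by
        ext z
        simp [(Submodule.Quotient.mk_eq_zero (LinearMap.range g)).mpr ⟨z, rfl⟩], map_zero]
    obtain ⟨x, hx⟩ := hrange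
    refine ⟨x, LinearMap.ext fun ψ => ?_⟩
    show ψ x = Φ ψ
    obtain ⟨h, rfl⟩ := lcomp_surjective hf hg ψ
    show h (g x) = Ψ h
    rw [hx, hy]

end Local

section CompletionAction

variable (I : Ideal R) {M : Type v} [AddCommGroup M] [Module R M]

/-- The action of the completion on a power torsion module. -/
noncomputable def smulFun (hM : LocCoh.IsPowerTorsion I M) (r : AdicCompletion I R) (x : M) : M :=
  (Ideal.Quotient.mk_surjective (AdicCompletion.evalₐ I (hM x).choose r)).choose • x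

theorem mk_eval_compat {n N : ℕ} (h : n ≤ N) (r : AdicCompletion I R) {a : R}
    (ha : Ideal.Quotient.mk (I ^ N) a = AdicCompletion.evalₐ I N r) :
    Ideal.Quotient.mk (I ^ n) a = AdicCompletion.evalₐ I n r := by
  induction r using AdicCompletion.induction_on with
  | _ s =>
    rw [AdicCompletion.evalₐ_mk] at ha ⊢
    rw [← AdicCompletion.Ideal.mk_eq_mk I h s]
    rw [Ideal.Quotient.mk_eq_mk_iff_sub_mem] at ha ⊢
    exact Ideal.pow_le_pow_right h ha

variable {I}

theorem smulFun_eq (hM : LocCoh.IsPowerTorsion I M) (r : AdicCompletion I R) (x : M) (n : ℕ)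
    (hn : ∀ c ∈ I ^ n, c • x = 0) (a : R)
    (ha : Ideal.Quotient.mk (I ^ n) a = AdicCompletion.evalₐ I n r) :
    smulFun I hM r x = a • x := by
  set k := (hM x).choose with hk
  obtain ⟨b, hb⟩ := Ideal.Quotient.mk_surjective (AdicCompletion.evalₐ I (max n k) r)
  have h1 := mk_eval_compat I (le_max_left n k) r hb
  have h2 := mk_eval_compat I (le_max_right n k) r hb
  have h3 := (Ideal.Quotient.mk_surjective (AdicCompletion.evalₐ I k r)).choose_spec
  have e1 : ∀ (j : ℕ) (p q : R), (∀ c ∈ I ^ j, c • x = 0) →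
      Ideal.Quotient.mk (I ^ j) p = Ideal.Quotient.mk (I ^ j) q → p • x = q • x := by
    intro j p q hj hpq
    rw [← sub_eq_zero, ← sub_smul]
    exact hj _ (Ideal.Quotient.mk_eq_mk_iff_sub_mem _ _ |>.mp hpq)
  rw [e1 n a b hn (ha.trans h1.symm)]
  exact e1 k _ b (hM x).choose_spec (h3.trans h2.symm)

theorem exists_uniform (hM : LocCoh.IsPowerTorsion I M) (r : AdicCompletion I R) (x y : M) :
    ∃ (n : ℕ) (a : R), (∀ c ∈ I ^ n, c • x = 0) ∧ (∀ c ∈ I ^ n, c • y = 0) ∧
      Ideal.Quotient.mk (I ^ n) a = AdicCompletion.evalₐ I n r := by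
  obtain ⟨i, hi⟩ := hM x
  obtain ⟨j, hj⟩ := hM y
  obtain ⟨a, ha⟩ := Ideal.Quotient.mk_surjective (AdicCompletion.evalₐ I (max i j) r)
  exact ⟨max i j, a, fun c hc => hi c (Ideal.pow_le_pow_right (le_max_left i j) hc),
    fun c hc => hj c (Ideal.pow_le_pow_right (le_max_right i j) hc), ha⟩

/-- A power torsion module is a module over the completion. -/
@[reducible] noncomputable def completionModule (hM : LocCoh.IsPowerTorsion I M) :
    Module (AdicCompletion I R) M where
  smul := smulFun I hM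
  one_smul x := by
    obtain ⟨n, hn⟩ := hM x
    exact (smulFun_eq hM 1 x n hn 1 (by simp)).trans (one_smul _ _)
  mul_smul r s x := by
    obtain ⟨n, a, hn, -, ha⟩ := exists_uniform hM r x x
    obtain ⟨b, hb⟩ := Ideal.Quotient.mk_surjective (AdicCompletion.evalₐ I n s)
    show smulFun I hM (r * s) x = smulFun I hM r (smulFun I hM s x)
    rw [smulFun_eq hM s x n hn b hb,
      smulFun_eq hM r (b • x) n (fun c hc => by rw [smul_comm, hn c hc, smul_zero]) a ha,
      smulFun_eq hM (r * s) x n hn (a * b) (by rw [map_mul, map_mul, ha, hb]), mul_smul]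
  smul_zero r := by
    show smulFun I hM r 0 = 0
    simp [smulFun]
  zero_smul x := by
    obtain ⟨n, hn⟩ := hM x
    exact (smulFun_eq hM 0 x n hn 0 (by simp)).trans (zero_smul _ _)
  smul_add r x y := by
    obtain ⟨n, a, hx, hy, ha⟩ := exists_uniform hM r x y
    show smulFun I hM r (x + y) = smulFun I hM r x + smulFun I hM r y
    rw [smulFun_eq hM r x n hx a ha, smulFun_eq hM r y n hy a ha,
      smulFun_eq hM r (x + y) n (fun c hc => by rw [smul_add, hx c hc, hy c hc, add_zero]) a ha,
      smul_add]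
  add_smul r s x := by
    obtain ⟨n, a, hn, -, ha⟩ := exists_uniform hM r x x
    obtain ⟨b, hb⟩ := Ideal.Quotient.mk_surjective (AdicCompletion.evalₐ I n s)
    show smulFun I hM (r + s) x = smulFun I hM r x + smulFun I hM s x
    rw [smulFun_eq hM r x n hn a ha, smulFun_eq hM s x n hn b hb,
      smulFun_eq hM (r + s) x n hn (a + b) (by rw [map_add, map_add, ha, hb]), add_smul]

theorem isScalarTower_completionModule (hM : LocCoh.IsPowerTorsion I M) :
    letI := completionModule hM
    IsScalarTower R (AdicCompletion I R) M := by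
  letI := completionModule hM
  refine ⟨fun c r x => ?_⟩
  obtain ⟨n, a, hn, -, ha⟩ := exists_uniform hM r x x
  show smulFun I hM (c • r) x = c • smulFun I hM r x
  rw [smulFun_eq hM r x n hn a ha, smulFun_eq hM (c • r) x n hn (c * a) (by
    rw [map_smul, ← ha, map_mul, Algebra.smul_def, Ideal.Quotient.algebraMap_eq]), mul_smul]

/-- The canonical map to the completed base change is bijective for power torsion modules. -/
theorem mk_one_bijective (hI : I.FG) (hM : LocCoh.IsPowerTorsion I M) :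
    Function.Bijective (TensorProduct.mk R (AdicCompletion I R) M 1) := by
  letI := completionModule hM
  haveI := isScalarTower_completionModule hM
  let act : AdicCompletion I R ⊗[R] M →ₗ[R] M :=
    TensorProduct.lift ((LinearMap.lsmul (AdicCompletion I R) M).restrictScalars₁₂ R R)
  refine ⟨fun x y h => ?_, fun t => ?_⟩
  · simpa [act] using congrArg act h
  · induction t using TensorProduct.induction_on with
    | zero => exact ⟨0, map_zero _⟩
    | add a b ha hb =>
      obtain ⟨x, rfl⟩ := ha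
      obtain ⟨y, rfl⟩ := hb
      exact ⟨x + y, map_add _ _ _⟩
    | tmul r x =>
      obtain ⟨n, hn⟩ := hM x
      obtain ⟨a, ha⟩ := Submodule.Quotient.mk_surjective _ (AdicCompletion.eval I R n r)
      have hker : r - a • 1 ∈ I ^ n • (⊤ : Submodule R (AdicCompletion I R)) := by
        rw [AdicCompletion.pow_smul_top_eq_ker_eval hI, LinearMap.mem_ker, map_sub, map_smul, ← ha,
          sub_eq_zero]
        show Submodule.Quotient.mk a = a • Submodule.Quotient.mk (1 : R)
        exact (congrArg Submodule.Quotient.mk (mul_one a).symm).trans rfl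
      refine ⟨a • x, ?_⟩
      have h0 : ∀ z ∈ I ^ n • (⊤ : Submodule R (AdicCompletion I R)), z ⊗ₜ[R] x = 0 := by
        intro z hz
        refine Submodule.smul_induction_on hz (fun c hc s _ => ?_) (fun p q hp hq => ?_)
        · rw [TensorProduct.smul_tmul, hn c hc, TensorProduct.tmul_zero]
        · rw [TensorProduct.add_tmul, hp, hq, add_zero]
      rw [TensorProduct.mk_apply, ← TensorProduct.smul_tmul, eq_comm, ← sub_eq_zero,
        ← TensorProduct.sub_tmul]
      exact h0 _ hker

end CompletionAction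

/-- The endomorphisms of the hull of the residue field form the completion. -/
theorem nonempty_end_algEquiv [IsLocalRing R] [IsNoetherianRing R] {m : Ideal R} [m.IsMaximal]
    {E : Type u} [AddCommGroup E] [Module R E] {f : (R ⧸ m) →ₗ[R] E} (hf : IsInjectiveHull f) :
    Nonempty (Module.End R E ≃ₐ[R] AdicCompletion m R) := by
  have hM := isPowerTorsion hf.toIsEssentialInj
  letI := completionModule hM
  haveI := isScalarTower_completionModule hM
  refine ⟨(AlgEquiv.ofBijective (Algebra.lsmul R R E : AdicCompletion m R →ₐ[R] Module.End R E)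
    ⟨(injective_iff_map_eq_zero _).mpr fun r hr => AdicCompletion.ext_evalₐ fun n => ?_,
      fun φ => ?_⟩).symm⟩
  · obtain ⟨a, ha⟩ := Ideal.Quotient.mk_surjective (AdicCompletion.evalₐ m n r)
    rw [map_zero, ← ha, Ideal.Quotient.eq_zero_iff_mem]
    refine mem_pow_of_forall_smul_eq_zero hf fun x hx => ?_
    rw [← smulFun_eq hM r x n hx a ha]
    exact LinearMap.congr_fun hr x
  · obtain ⟨a, ha, hcompat⟩ := exists_seq hf φ
    refine ⟨AdicCompletion.mk m R ⟨a, fun {i j} h => hcompat h⟩, LinearMap.ext fun x => ?_⟩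
    obtain ⟨n, hn⟩ := hM x
    rw [ha n x hn]
    exact smulFun_eq hM _ x n hn (a n)
      (AdicCompletion.evalₐ_mk m n (⟨a, fun {i j} h => hcompat h⟩ : AdicCompletion.AdicCauchySequence m R)).symm

end Groth.Agent.Lib.InjHull.Complete
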