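import Groth.Prelude.Def_Wider
import Mathlib.RingTheory.Artinian.Module
import Mathlib.RingTheory.FiniteLength
import Mathlib.Algebra.Module.Torsion.Basic

/-!
Artinian criteria for power torsion modules.
-/

universe u v

namespace Groth.Agent.Lib.InjHull.Artinian

variable {R : Type u} [CommRing R]

/-- A module killed by powers of `x` is Artinian as soon as its `x`-torsion is. -/
theorem isArtinian_of_principal (x : R) (M : Type v) [AddCommGroup M] [Module R M]
    (hM : ∀ m : M, ∃ j : ℕ, x ^ j • m = 0)
    (hA : IsArtinian R (LinearMap.ker (LinearMap.lsmul R M x))) : IsArtinian R M := by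
  rw [← monotone_stabilizes_iff_artinian]
  intro N
  let K := LinearMap.ker (LinearMap.lsmul R M x)
  let L : ℕ → ℕ → Submodule R M := fun i n =>
    Submodule.map (LinearMap.lsmul R M (x ^ i))
      (OrderDual.ofDual (N n) ⊓ LinearMap.ker (LinearMap.lsmul R M (x ^ (i + 1))))
  have hN : ∀ {n n'}, n ≤ n' → OrderDual.ofDual (N n') ≤ OrderDual.ofDual (N n) :=
    fun {n n'} h => N.monotone h
  have hLK : ∀ i n, L i n ≤ K := by
    rintro i n _ ⟨y, ⟨-, hy⟩, rfl⟩
    show x • x ^ i • y = 0
    rw [← mul_smul, ← pow_succ']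
    exact hy
  have hLn : ∀ i {n n'}, n ≤ n' → L i n' ≤ L i n :=
    fun i {n n'} h => Submodule.map_mono (inf_le_inf_right _ (hN h))
  have hLi : ∀ i n, L (i + 1) n ≤ L i n := by
    rintro i n _ ⟨y, ⟨hy1, hy2⟩, rfl⟩
    refine ⟨x • y, ⟨Submodule.smul_mem _ x hy1, ?_⟩, ?_⟩
    · show x ^ (i + 1) • x • y = 0
      rw [← mul_smul, ← pow_succ]
      exact hy2
    · show x ^ i • x • y = x ^ (i + 1) • y
      rw [← mul_smul, ← pow_succ]
  have hLi' : ∀ {i i'} n, i ≤ i' → L i' n ≤ L i n := by
    intro i i' n h
    induction h with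
    | refl => exact le_rfl
    | step _ ih => exact (hLi _ _).trans ih
  -- the family below `K` is Artinian
  have hstab : ∀ f : ℕ → Submodule R M, Antitone f → (∀ n, f n ≤ K) →
      ∃ n, ∀ m, n ≤ m → f n = f m := by
    intro f hf hfK
    obtain ⟨n, hn⟩ := monotone_stabilizes_iff_artinian.mpr hA
      ⟨fun n => OrderDual.toDual ((f n).comap K.subtype), fun a b h =>
        Submodule.comap_mono (hf h)⟩
    refine ⟨n, fun m hm => ?_⟩
    have h := congrArg (Submodule.map K.subtype) (congrArg OrderDual.ofDual (hn m hm))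
    change Submodule.map K.subtype ((f n).comap K.subtype) =
      Submodule.map K.subtype ((f m).comap K.subtype) at h
    rw [Submodule.map_comap_subtype, Submodule.map_comap_subtype] at h
    rwa [inf_eq_right.mpr (hfK n), inf_eq_right.mpr (hfK m)] at h
  obtain ⟨J, hJ⟩ := hstab (fun j => L j j)
    (fun a b h => (hLi' b h).trans (hLn a h)) (fun j => hLK j j)
  choose ni hni using fun i => hstab (L i) (fun a b h => hLn i h) (hLK i)
  refine ⟨J ⊔ (Finset.range J).sup ni, fun m hm => ?_⟩
  set n := J ⊔ (Finset.range J).sup ni with hn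
  have hJn : J ≤ n := le_sup_left
  have hL : ∀ i, L i n ≤ L i m := by
    intro i
    rcases lt_or_ge i J with hi | hi
    · have h1 : ni i ≤ n :=
        le_trans (Finset.le_sup (f := ni) (Finset.mem_range.mpr hi)) le_sup_right
      rw [← hni i n h1, ← hni i m (h1.trans hm)]
    · calc L i n ≤ L J n := hLi' n hi
        _ ≤ L J J := hLn J hJn
        _ = L (max i m) (max i m) := hJ _ (le_max_of_le_left hi)
        _ ≤ L i (max i m) := hLi' _ (le_max_left _ _)
        _ ≤ L i m := hLn i (le_max_right _ _)
  refine le_antisymm ?_ (fun y hy => ?_)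
  · exact N.monotone hm
  change y ∈ OrderDual.ofDual (N n) at hy
  show y ∈ OrderDual.ofDual (N m)
  obtain ⟨j, hj⟩ := hM y
  induction j generalizing y with
  | zero => rw [pow_zero, one_smul] at hj; rw [hj]; exact zero_mem _
  | succ j ih =>
    obtain ⟨z, ⟨hz1, hz2⟩, hz⟩ := hL j (show x ^ j • y ∈ L j n from ⟨y, ⟨hy, hj⟩, rfl⟩)
    have := ih (y - z) (sub_mem hy (hN hm hz1)) (by
      rw [smul_sub]
      exact sub_eq_zero.mpr hz.symm)
    simpa using add_mem this hz1

/-- A power torsion module is Artinian as soon as the part killed by the ideal is. -/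
theorem isArtinian_of_torsionBy (a : Ideal R) (ha : a.FG) (M : Type v) [AddCommGroup M] [Module R M]
    (hM : LocCoh.IsPowerTorsion a M) (hA : IsArtinian R (LocCoh.torsionBy a M)) :
    IsArtinian R M := by
  classical
  obtain ⟨s, rfl⟩ := ha
  induction s using Finset.induction_on generalizing M with
  | empty =>
    have htop : LocCoh.torsionBy (Ideal.span ((∅ : Finset R) : Set R)) M = ⊤ := by
      rw [eq_top_iff]
      intro y _
      rw [Submodule.mem_torsionBySet_iff]
      rintro ⟨c, hc⟩
      simp only [Finset.coe_empty, Ideal.span_empty, SetLike.mem_coe, Ideal.mem_bot] at hc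
      simp [hc]
    exact (Submodule.topEquiv (R := R) (M := M)).isArtinian_iff.mp (htop ▸ hA)
  | insert x s hx ih =>
    have hxmem : x ∈ Ideal.span ((insert x s : Finset R) : Set R) := Ideal.subset_span (by simp)
    refine isArtinian_of_principal x M (fun m => ?_) ?_
    · obtain ⟨j, hj⟩ := hM m
      exact ⟨j, hj _ (Ideal.pow_mem_pow hxmem j)⟩
    have hle : Ideal.span (s : Set R) ≤ Ideal.span ((insert x s : Finset R) : Set R) :=
      Ideal.span_mono (by simp)
    refine ih _ (fun m => ?_) ?_
    · obtain ⟨j, hj⟩ := hM m.1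
      exact ⟨j, fun c hc => Subtype.ext (hj c (Ideal.pow_right_mono hle j hc))⟩
    · have hmem : ∀ y : LocCoh.torsionBy (Ideal.span (s : Set R))
          (LinearMap.ker (LinearMap.lsmul R M x)),
          (y.1.1 : M) ∈ LocCoh.torsionBy (Ideal.span ((insert x s : Finset R) : Set R)) M := by
        intro y
        rw [Submodule.mem_torsionBySet_iff]
        rintro ⟨c, hc⟩
        rw [Finset.coe_insert, SetLike.mem_coe, Ideal.mem_span_insert] at hc
        obtain ⟨d, z, hz, rfl⟩ := hc
        show (d * x + z) • (y.1.1 : M) = 0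
        rw [add_smul, mul_smul, show x • (y.1.1 : M) = 0 from y.1.2, smul_zero, zero_add]
        exact congrArg Subtype.val ((Submodule.mem_torsionBySet_iff _ _).mp y.2 ⟨z, hz⟩)
      exact isArtinian_of_injective
        ({ toFun := fun y => ⟨y.1.1, hmem y⟩, map_add' := fun _ _ => rfl,
           map_smul' := fun _ _ => rfl } :
          LocCoh.torsionBy (Ideal.span (s : Set R)) (LinearMap.ker (LinearMap.lsmul R M x)) →ₗ[R]
            LocCoh.torsionBy (Ideal.span ((insert x s : Finset R) : Set R)) M)
        (fun y z h => Subtype.ext (Subtype.ext (congrArg Subtype.val h :)))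

/-- A nonzero element of a power torsion module has a nonzero multiple killed by the ideal. -/
theorem exists_smul_mem_torsionBy {a : Ideal R} {M : Type v} [AddCommGroup M] [Module R M]
    (hM : LocCoh.IsPowerTorsion a M) {x : M} (hx : x ≠ 0) :
    ∃ r : R, r • x ≠ 0 ∧ r • x ∈ LocCoh.torsionBy a M := by
  classical
  have h : ∃ n : ℕ, ∀ c ∈ a ^ n, c • x = 0 := hM x
  have hpos : Nat.find h ≠ 0 := by
    intro h0
    have := Nat.find_spec h
    rw [h0] at this
    exact hx (by simpa using this 1 (by simp))
  obtain ⟨n, hn⟩ := Nat.exists_eq_succ_of_ne_zero hpos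
  have hnot := Nat.find_min h (show n < Nat.find h by omega)
  push Not at hnot
  obtain ⟨r, hr, hr0⟩ := hnot
  refine ⟨r, hr0, (Submodule.mem_torsionBySet_iff _ _).mpr ?_⟩
  rintro ⟨c, hc⟩
  show c • r • x = 0
  rw [← mul_smul, mul_comm]
  refine Nat.find_spec h _ ?_
  rw [hn, pow_succ]
  exact Ideal.mul_mem_mul hr hc

/-- In an Artinian module over a Noetherian local ring every element is killed by a power of the
maximal ideal. -/
theorem isPowerTorsion_of_isArtinian [IsLocalRing R] [IsNoetherianRing R] (M : Type v)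
    [AddCommGroup M] [Module R M] [IsArtinian R M] :
    LocCoh.IsPowerTorsion (IsLocalRing.maximalIdeal R) M := by
  intro x
  let m := IsLocalRing.maximalIdeal R
  obtain ⟨n, hn⟩ := monotone_stabilizes_iff_artinian.mpr (inferInstance : IsArtinian R M)
    ⟨fun n => OrderDual.toDual (m ^ n • Submodule.span R {x}), fun i j h =>
      Submodule.smul_mono_left (Ideal.pow_le_pow_right h)⟩
  refine ⟨n, fun c hc => ?_⟩
  have hN := congrArg OrderDual.ofDual (hn (n + 1) n.le_succ)
  change m ^ n • Submodule.span R {x} = m ^ (n + 1) • Submodule.span R {x} at hN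
  have hbot : m ^ n • Submodule.span R {x} = ⊥ := by
    refine Submodule.eq_bot_of_le_smul_of_le_jacobson_bot m _ ?_ ?_
      (IsLocalRing.maximalIdeal_le_jacobson _)
    · exact Submodule.FG.smul (IsNoetherian.noetherian _) (Submodule.fg_span_singleton x)
    · nth_rw 1 [hN]
      rw [pow_succ', Submodule.mul_smul]
  have : c • x ∈ m ^ n • Submodule.span R {x} :=
    Submodule.smul_mem_smul hc (Submodule.mem_span_singleton_self x)
  rwa [hbot, Submodule.mem_bot] at this

/-- The part killed by a maximal ideal is Artinian iff it is finite dimensional. -/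
theorem isArtinian_torsionBy_iff (m : Ideal R) [m.IsMaximal] (M : Type v) [AddCommGroup M]
    [Module R M] :
    IsArtinian R (LocCoh.torsionBy m M) ↔ Module.Finite (R ⧸ m) (LocCoh.torsionBy m M) := by
  let : Field (R ⧸ m) := Ideal.Quotient.field m
  constructor
  · intro h
    have : IsArtinian (R ⧸ m) (LocCoh.torsionBy m M) := isArtinian_of_tower R h
    exact ((IsSemisimpleModule.finite_tfae (R := R ⧸ m) (M := LocCoh.torsionBy m M)).out 0 2).mpr this
  · intro h
    have : IsArtinian (R ⧸ m) (LocCoh.torsionBy m M) :=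
      ((IsSemisimpleModule.finite_tfae (R := R ⧸ m) (M := LocCoh.torsionBy m M)).out 0 2).mp h
    exact isArtinian_of_surjective_algebraMap
      (show Function.Surjective (algebraMap R (R ⧸ m)) from Ideal.Quotient.mk_surjective)

/-- A finite module killed by powers of a maximal ideal is Artinian. -/
theorem isArtinian_of_isPowerTorsion_of_isNoetherian (m : Ideal R) [m.IsMaximal] (hm : m.FG)
    (M : Type v) [AddCommGroup M] [Module R M] [IsNoetherian R M]
    (hM : LocCoh.IsPowerTorsion m M) : IsArtinian R M := by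
  refine isArtinian_of_torsionBy m hm M hM ((isArtinian_torsionBy_iff m M).mpr ?_)
  have : Module.Finite R (LocCoh.torsionBy m M) :=
    Module.Finite.iff_fg.mpr (IsNoetherian.noetherian _)
  exact Module.Finite.of_restrictScalars_finite R (R ⧸ m) _

theorem isArtinian_iff_isPowerTorsion [IsLocalRing R] [IsNoetherianRing R] (M : Type v)
    [AddCommGroup M] [Module R M] :
    IsArtinian R M ↔ (LocCoh.IsPowerTorsion (IsLocalRing.maximalIdeal R) M ∧
      Module.Finite (R ⧸ IsLocalRing.maximalIdeal R)
        (LocCoh.torsionBy (IsLocalRing.maximalIdeal R) M)) :=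
  ⟨fun _ => ⟨isPowerTorsion_of_isArtinian M, (isArtinian_torsionBy_iff _ M).mp inferInstance⟩,
    fun h => isArtinian_of_torsionBy _ (IsNoetherian.noetherian _) M h.1
      ((isArtinian_torsionBy_iff _ M).mpr h.2)⟩

end Groth.Agent.Lib.InjHull.Artinian
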