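import Groth.Agent.Lib.InjHull.Basic
import Mathlib.RingTheory.Noetherian.Basic
import Mathlib.Algebra.DirectSum.Module
import Mathlib.RingTheory.LocalProperties.Injective
import Mathlib.Algebra.Module.LocalizedModule.Submodule

/-!
Injective modules over Noetherian rings: sums, structure, localisation.
-/

universe u v

open InjHull Pointwise DirectSum

namespace Groth.Agent.Lib.InjHull.Noeth

open Groth.Agent.Lib.InjHull.Basic

variable {R : Type u} [CommRing R] [IsNoetherianRing R]

theorem injective_directSum {ι : Type u} (E : ι → Type u) [∀ i, AddCommGroup (E i)]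
    [∀ i, Module R (E i)] (hE : ∀ i, Module.Injective R (E i)) :
    Module.Injective R (DirectSum ι E) := by
  classical
  refine Module.Baer.injective fun J g => ?_
  obtain ⟨n, s, hs⟩ := Submodule.fg_iff_exists_fin_generating_family.mp
    (Module.finite_def.mp (inferInstance : Module.Finite R J))
  let F : Finset ι := Finset.univ.biUnion fun k => DFinsupp.support (g (s k))
  have hF : ∀ (x : J) (i : ι), i ∉ F → g x i = 0 := by
    intro x i hi
    have hx : x ∈ Submodule.span R (Set.range s) := hs ▸ trivial
    induction hx using Submodule.span_induction with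
    | mem y hy =>
      obtain ⟨k, rfl⟩ := hy
      by_contra h
      exact hi (Finset.mem_biUnion.mpr ⟨k, Finset.mem_univ _, DFinsupp.mem_support_iff.mpr h⟩)
    | zero => simp
    | add y z _ _ hy hz => simp [hy, hz]
    | smul r y _ hy => rw [map_smul, DirectSum.smul_apply, hy, smul_zero]
  have hext : ∀ i, ∃ h : R →ₗ[R] E i, ∀ (x : R) (hx : x ∈ J), h x = g ⟨x, hx⟩ i := fun i =>
    Module.Baer.of_injective (hE i) J ((DirectSum.component R ι E i) ∘ₗ g)
  choose h hh using hext
  refine ⟨∑ i ∈ F, (DirectSum.lof R ι E i) ∘ₗ h i, fun x hx => ?_⟩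
  rw [LinearMap.sum_apply]
  refine DirectSum.ext_component R fun i => ?_
  rw [map_sum]
  simp only [LinearMap.comp_apply]
  by_cases hi : i ∈ F
  · rw [Finset.sum_eq_single_of_mem i hi fun b _ hb => by
        simp [DirectSum.component.of, dif_neg hb], hh i x hx]
    simp [DirectSum.component.of]
    rfl
  · rw [Finset.sum_eq_zero fun b hb => ?_]
    · exact (hF ⟨x, hx⟩ i hi).symm
    · simp [DirectSum.component.of, dif_neg (fun e : b = i => hi (e ▸ hb))]

theorem exists_associatedPrime_embedding (M : Type v) [AddCommGroup M] [Module R M] [Nontrivial M] :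
    ∃ (p : Ideal R) (_ : p.IsPrime) (f : (R ⧸ p) →ₗ[R] M), Function.Injective f := by
  obtain ⟨p, hp⟩ := associatedPrimes.nonempty R M
  obtain ⟨hpp, m, hm⟩ := isAssociatedPrime_iff.mp hp
  have hker : ∀ r : R, r ∈ p ↔ r • m = 0 := fun r => by
    rw [hm, Submodule.mem_colon_singleton, Submodule.mem_bot]
  refine ⟨p, hpp, Submodule.liftQ p (LinearMap.toSpanSingleton R M m) fun r hr => (hker r).mp hr,
    ?_⟩
  rw [← LinearMap.ker_eq_bot, Submodule.eq_bot_iff]
  intro x hx
  obtain ⟨x, rfl⟩ := Submodule.Quotient.mk_surjective _ x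
  exact (Submodule.Quotient.mk_eq_zero _).mpr ((hker x).mpr hx)

theorem exists_hull_residueField_of_indecomposable {E : Type u} [AddCommGroup E] [Module R E]
    (hE : IsIndecomposable R E) (hinj : Module.Injective R E) :
    ∃ (p : Ideal R) (_ : p.IsPrime) (f : (R ⧸ p) →ₗ[R] E), IsInjectiveHull f := by
  have := hE.1
  obtain ⟨p, hp, f, hf⟩ := exists_associatedPrime_embedding (R := R) E
  refine ⟨p, hp, f, ⟨⟨hf, fun N hN => ?_⟩, hinj⟩⟩
  refine inf_ne_bot_of_indecomposable hE hinj hN fun h => ?_
  rw [LinearMap.range_eq_bot] at h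
  have : Nontrivial (R ⧸ p) := Ideal.Quotient.nontrivial_iff.mpr hp.ne_top
  obtain ⟨x, hx⟩ := exists_ne (0 : R ⧸ p)
  exact hx (hf (by simp [h]))

/-- A nonzero injective module contains an indecomposable injective submodule. -/
theorem exists_indecomposable_le {I : Type u} [AddCommGroup I] [Module R I]
    (hI : Module.Injective R I) [Nontrivial I] :
    ∃ H : Submodule R I, IsIndecomposable R H ∧ Module.Injective R H := by
  obtain ⟨p, hp, f, hf⟩ := exists_associatedPrime_embedding (R := R) I
  obtain ⟨H, hle, hH⟩ := exists_hull_le hI (LinearMap.range f)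
  refine ⟨H, ?_, hH.isInjective⟩
  let e := LinearEquiv.ofInjective f hf
  refine isIndecomposable_of_quotient_prime (p := p)
    (f := Submodule.inclusion hle ∘ₗ e.toLinearMap) (isEssentialInj_comp ?_ hH.toIsEssentialInj)
  exact (isEssentialInj_iff _).mpr ⟨e.injective, fun x hx => ⟨1, by simpa using hx, by simp⟩⟩

open Classical in
theorem exists_isInternal (I : Type u) [AddCommGroup I] [Module R I] (hI : Module.Injective R I) :
    ∃ (ι : Type u) (E : ι → Submodule R I), DirectSum.IsInternal E ∧
      ∀ i, IsIndecomposable R (E i) ∧ Module.Injective R (E i) := by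
  classical
  let P : Set (Set (Submodule R I)) := {S | sSupIndep S ∧
    ∀ H ∈ S, IsIndecomposable R (H : Submodule R I) ∧ Module.Injective R (H : Submodule R I)}
  obtain ⟨S, -, hS⟩ := zorn_subset_nonempty P (fun c hc hchain _ => by
    refine ⟨⋃₀ c, ⟨?_, fun H ⟨s, hs, hH⟩ => (hc hs).2 H hH⟩, fun s hs => Set.subset_sUnion_of_mem hs⟩
    exact iSupIndep_sUnion_of_directed hchain.directedOn fun s hs => (hc hs).1)
    ∅ ⟨by simp [sSupIndep], by simp⟩
  have hindep : iSupIndep (fun i : S => (i : Submodule R I)) := (sSupIndep_iff S).mp hS.1.1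
  have hW : Module.Injective R (sSup S : Submodule R I) := by
    have h1 : Module.Injective R (⨁ i : S, (i : Submodule R I)) :=
      injective_directSum _ fun i => (hS.1.2 i i.2).2
    have hinj := hindep.dfinsupp_lsum_injective
    let φ : (⨁ i : S, (i : Submodule R I)) →ₗ[R] I :=
      DFinsupp.lsum ℕ (fun i : S => (i : Submodule R I).subtype)
    have hr : LinearMap.range φ = sSup S := by
      rw [sSup_eq_iSup']
      exact (Submodule.iSup_eq_range_dfinsupp_lsum _).symm
    exact injective_of_equiv ((LinearEquiv.ofInjective φ hinj).trans (LinearEquiv.ofEq _ _ hr)) h1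
  have htop : sSup S = (⊤ : Submodule R I) := by
    obtain ⟨C, hC⟩ := exists_isCompl_range (sSup S).subtype (sSup S).injective_subtype hW
    rw [Submodule.range_subtype] at hC
    by_contra hne
    have hCne : C ≠ ⊥ := fun h => hne (by rw [← hC.sup_eq_top, h, sup_bot_eq])
    have : Nontrivial C := Submodule.nontrivial_iff_ne_bot.mpr hCne
    have hCinj : Module.Injective R C :=
      injective_of_retract C.subtype
        (C.projectionOnto (sSup S) hC.symm) (by ext x; simp) hI
    obtain ⟨H, hH1, hH2⟩ := exists_indecomposable_le hCinj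
    let H' : Submodule R I := H.map C.subtype
    let e : H ≃ₗ[R] H' := C.equivSubtypeMap H |>.symm |>.symm
    have hH'ind : IsIndecomposable R H' := by
      have := hH1.1
      refine ⟨e.injective.nontrivial, fun N N' hNN' => ?_⟩
      have hcomp : IsCompl (N.comap e.toLinearMap) (N'.comap e.toLinearMap) := by
        exact ((Submodule.orderIsoMapComap e).symm.isCompl_iff).mp hNN'
      rcases hH1.2 _ _ hcomp with h | h
      · left; simpa [Submodule.comap_equiv_eq_map_symm] using h
      · right; simpa [Submodule.comap_equiv_eq_map_symm] using h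
    have hH'inj : Module.Injective R H' := injective_of_equiv e hH2
    have hle : H' ≤ C := Submodule.map_subtype_le C H
    have hnew : insert H' S ∈ P := by
      refine ⟨?_, fun K hK => hK.elim (fun h => h ▸ ⟨hH'ind, hH'inj⟩) (hS.1.2 K)⟩
      intro a ha
      rcases ha with rfl | ha
      · refine hC.symm.disjoint.mono hle (sSup_le_sSup ?_)
        exact fun x hx => hx.1.resolve_left fun h => hx.2 (by simpa using h)
      · by_cases haH : a = H'
        · subst haH
          refine hC.symm.disjoint.mono hle (sSup_le_sSup ?_)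
          exact fun x hx => hx.1.resolve_left fun h => hx.2 (by simpa using h)
        have hsub : sSup (insert H' S \ {a}) ≤ sSup (S \ {a}) ⊔ C := by
          refine sSup_le fun x hx => ?_
          rcases hx.1 with rfl | hxS
          · exact hle.trans le_sup_right
          · exact le_sup_of_le_left (le_sSup ⟨hxS, hx.2⟩)
        refine Disjoint.mono_right hsub ?_
        rw [Submodule.disjoint_def]
        intro x hxa hx
        obtain ⟨y, hy, z, hz, rfl⟩ := Submodule.mem_sup.mp hx
        have hz' : z ∈ sSup S := by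
          have := sub_mem (le_sSup ha hxa) ((sSup_le_sSup Set.sdiff_subset : sSup (S \ {a}) ≤ sSup S) hy)
          simpa using this
        have hz0 : z = 0 := Submodule.disjoint_def.mp hC.disjoint z hz' hz
        rw [hz0, add_zero] at hxa ⊢
        exact Submodule.disjoint_def.mp (hS.1.1 ha) y hxa hy
    have hmem : H' ∈ S := hS.2 hnew (Set.subset_insert _ _) (Set.mem_insert _ _)
    have hbot : H' = ⊥ := le_bot_iff.mp (hC.disjoint (le_sSup hmem) hle)
    exact (Submodule.nontrivial_iff_ne_bot.mp hH'ind.1) hbot
  refine ⟨S, fun i => i, ?_, fun i => hS.1.2 i i.2⟩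
  convert (DirectSum.isInternal_submodule_iff_iSupIndep_and_iSup_eq_top (fun i : S => (i : Submodule R I))).mpr
    ⟨hindep, by rw [← sSup_eq_iSup', htop]⟩

omit [IsNoetherianRing R] in
/-- In an essential extension of a module killed by `s`, everything is killed by a power of `s`. -/
theorem exists_pow_smul_eq_zero_of_essential [IsNoetherianRing R] {M E : Type v} [AddCommGroup M] [Module R M]
    [AddCommGroup E] [Module R E] {f : M →ₗ[R] E} (hf : IsEssentialInj f) {s : R}
    (hs : ∀ m : M, s • m = 0) (x : E) : ∃ n : ℕ, s ^ n • x = 0 := by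
  let A : ℕ →o Ideal R := ⟨fun n => (Submodule.span R {s ^ n • x}).annihilator, fun i j hij r hr => by
    rw [Submodule.mem_annihilator_span_singleton] at hr ⊢
    rw [← Nat.sub_add_cancel hij, pow_add, mul_smul, smul_comm, hr, smul_zero]⟩
  obtain ⟨N, hN⟩ := monotone_stabilizes_iff_noetherian.2 inferInstance A
  refine ⟨N, ?_⟩
  by_contra hne
  obtain ⟨r, hr0, m, hm⟩ := ((isEssentialInj_iff f).mp hf).2 _ hne
  have : r ∈ A (N + 1) := by
    show r ∈ (Submodule.span R {s ^ (N + 1) • x}).annihilator
    rw [Submodule.mem_annihilator_span_singleton, pow_succ', mul_smul, smul_comm, ← hm, ← map_smul,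
      hs, map_zero]
  rw [← hN (N + 1) (Nat.le_succ N)] at this
  exact hr0 ((Submodule.mem_annihilator_span_singleton _ _).mp this)

omit [IsNoetherianRing R] in
/-- Localisation preserves essential extensions. -/
theorem localized_essential [IsNoetherianRing R] (S : Submonoid R) {M : Type v} [AddCommGroup M] [Module R M]
    (N : Submodule R M) (hN : ∀ x : M, x ≠ 0 → ∃ r : R, r • x ≠ 0 ∧ r • x ∈ N)
    (z : LocalizedModule S M) (hz : z ≠ 0) :
    ∃ r : Localization S, r • z ≠ 0 ∧ r • z ∈ Submodule.localized S N := by
  let ψ := LocalizedModule.mkLinearMap S M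
  obtain ⟨⟨x, s⟩, hxs⟩ := IsLocalizedModule.surj S ψ z
  simp only at hxs
  -- replace `x` by a multiple with maximal annihilator
  let 𝒜 : Set (Ideal R) := {a | ∃ t : S, a = (Submodule.span R {t • x}).annihilator}
  obtain ⟨-, ⟨t, rfl⟩, hmax⟩ := set_has_maximal_iff_noetherian.mpr
    (inferInstance : IsNoetherian R R) 𝒜 ⟨_, 1, rfl⟩
  have hy : ψ (t • x) = (t * s) • z := by
    rw [LinearMap.map_smul_of_tower, ← hxs, smul_smul]
  have hy0 : ψ (t • x) ≠ 0 := by
    rw [hy]
    intro h
    have hu := (Module.End.isUnit_iff _).mp (IsLocalizedModule.map_units ψ (t * s))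
    exact hz (hu.1 ((show algebraMap R (Module.End R (LocalizedModule S M)) ↑(t * s) z = 0 from h).trans
      (map_zero _).symm))
  let a : Ideal R := N.comap (LinearMap.toSpanSingleton R M (t • x))
  by_cases hall : ∀ r ∈ a, ψ (r • (t • x)) = 0
  · exfalso
    obtain ⟨k, g, hg⟩ := Submodule.fg_iff_exists_fin_generating_family.mp
      (IsNoetherian.noetherian a)
    have : ∀ i, ∃ c : S, c • (g i • (t • x)) = 0 := fun i =>
      (IsLocalizedModule.eq_zero_iff S ψ).mp (hall _ (hg ▸ Submodule.subset_span ⟨i, rfl⟩))
    choose c hc using this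
    let u : S := ∏ i, c i
    have hu : ∀ r ∈ a, r • ((u * t) • x) = 0 := by
      intro r hr
      rw [← hg] at hr
      induction hr using Submodule.span_induction with
      | mem r hr =>
        obtain ⟨i, rfl⟩ := hr
        rw [mul_smul, smul_comm, show u = (∏ j ∈ Finset.univ.erase i, c j) * c i from
          (Finset.prod_erase_mul _ _ (Finset.mem_univ i)).symm, mul_smul, hc i, smul_zero]
      | zero => simp
      | add p q _ _ hp hq => rw [add_smul, hp, hq, add_zero]
      | smul p q _ hq => rw [smul_eq_mul, mul_smul, hq, smul_zero]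
    have hle : (Submodule.span R {t • x}).annihilator ≤ (Submodule.span R {(u * t) • x}).annihilator := by
      intro r hr
      rw [Submodule.mem_annihilator_span_singleton] at hr ⊢
      rw [mul_smul, smul_comm, hr, smul_zero]
    have heq := eq_of_le_of_not_lt hle (hmax _ ⟨u * t, rfl⟩)
    have htx : t • x ≠ 0 := fun h => hy0 (by simp [h])
    obtain ⟨r, hr0, hr⟩ := hN _ htx
    refine hr0 ?_
    rw [← Submodule.mem_annihilator_span_singleton, heq, Submodule.mem_annihilator_span_singleton]
    exact hu r hr
  · push Not at hall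
    obtain ⟨r, hr, hr0⟩ := hall
    refine ⟨algebraMap R (Localization S) (r * (t * s : S)), ?_, ?_⟩ <;>
      rw [algebraMap_smul, mul_smul, ← Submonoid.smul_def, ← hy, ← map_smul]
    · exact hr0
    · exact ⟨r • t • x, hr, 1, by simp [ψ]⟩

end Groth.Agent.Lib.InjHull.Noeth
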