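import Groth.Agent.Lib.InjHull.Recognize
import Mathlib.Algebra.Category.ModuleCat.ChangeOfRings
import Mathlib.RingTheory.IntegralClosure.IntegralRestrict
import Mathlib.RingTheory.Ideal.GoingUp

/-!
Coextension of scalars of the injective hull of a residue field along a finite map.
-/

universe u v

open InjHull

namespace Groth.Agent.Lib.InjHull.Coextend

open Groth.Agent.Lib.InjHull.Artinian Groth.Agent.Lib.InjHull.Matlis
open Groth.Agent.Lib.InjHull.Complete Groth.Agent.Lib.InjHull.Recognize

variable (A : Type u) [CommRing A] (B : Type u) [CommRing B] [Algebra A B]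
  (E : Type u) [AddCommGroup E] [Module A E]

/-- The coextended module. -/
noncomputable abbrev Coext : ModuleCat.{u} B :=
  (ModuleCat.coextendScalars (algebraMap A B)).obj (ModuleCat.of A E)

variable {A B E}

/-- An element of the coextended module as a linear map. -/
noncomputable def toHom (g : Coext A B E) : B →ₗ[A] E where
  toFun b := g b
  map_add' b c := (ModuleCat.CoextendScalars.equiv _ _ g).map_add b c
  map_smul' r b := by
    rw [RingHom.id_apply, Algebra.smul_def]
    exact (ModuleCat.CoextendScalars.equiv _ _ g).map_smul r b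

/-- A linear map as an element of the coextended module. -/
noncomputable def ofHom (φ : B →ₗ[A] E) : Coext A B E :=
  (ModuleCat.CoextendScalars.equiv (algebraMap A B) (ModuleCat.of A E)).symm
    { toFun := fun (b : B) => φ b
      map_add' := fun (b c : B) => φ.map_add b c
      map_smul' := fun r (b : B) => by
        show φ (algebraMap A B r * b) = r • φ b
        rw [← Algebra.smul_def, map_smul] }

@[simp]
theorem toHom_ofHom (φ : B →ₗ[A] E) : toHom (ofHom φ) = φ := rfl

theorem toHom_injective : Function.Injective (toHom : Coext A B E → (B →ₗ[A] E)) := fun g g' h =>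
  ModuleCat.CoextendScalars.ext (LinearMap.ext fun b => LinearMap.congr_fun h b)

@[simp]
theorem toHom_smul (s : B) (g : Coext A B E) (b : B) : toHom (s • g) b = toHom g (b * s) := rfl

@[simp]
theorem toHom_zero : toHom (0 : Coext A B E) = 0 := rfl

@[simp]
theorem toHom_add (g g' : Coext A B E) : toHom (g + g') = toHom g + toHom g' := rfl

theorem injective_coext [hE : Module.Injective A E] : Module.Injective B (Coext A B E) := by
  refine ⟨fun P Q _ _ _ _ i hi g => ?_⟩
  letI : Module A P := Module.compHom P (algebraMap A B)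
  letI : Module A Q := Module.compHom Q (algebraMap A B)
  let i' : P →ₗ[A] Q :=
    { toFun := i, map_add' := i.map_add, map_smul' := fun r p => i.map_smul (algebraMap A B r) p }
  let g' : P →ₗ[A] E :=
    { toFun := fun p => toHom (g p) 1
      map_add' := fun p q => by simp
      map_smul' := fun r p => by
        show toHom (g (algebraMap A B r • p)) 1 = r • toHom (g p) 1
        rw [map_smul, toHom_smul, one_mul, ← map_smul (toHom (g p)) r 1, Algebra.smul_def, mul_one] }
  obtain ⟨h, hh⟩ := hE.out i' hi g'
  have hadd : ∀ q : Q, ∀ b c : B, h ((b + c) • q) = h (b • q) + h (c • q) := fun q b c => by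
    rw [add_smul, map_add]
  let G : Q →ₗ[B] Coext A B E :=
    { toFun := fun q => ofHom
        { toFun := fun b => h (b • q)
          map_add' := hadd q
          map_smul' := fun r b => by
            rw [RingHom.id_apply, ← map_smul, Algebra.smul_def, mul_smul]; rfl }
      map_add' := fun q q' => toHom_injective (LinearMap.ext fun b => by
        show h (b • (q + q')) = h (b • q) + h (b • q')
        rw [smul_add, map_add])
      map_smul' := fun s q => toHom_injective (LinearMap.ext fun b => by
        show h (b • s • q) = h ((b * s) • q)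
        rw [mul_smul]) }
  refine ⟨G, fun p => toHom_injective (LinearMap.ext fun b => ?_)⟩
  show h (b • i p) = toHom (g p) b
  rw [← map_smul]
  refine (hh (b • p)).trans ?_
  show toHom (g (b • p)) 1 = toHom (g p) b
  rw [map_smul, toHom_smul, one_mul]

theorem isPowerTorsion_coext [Module.Finite A B] {m : Ideal A} (hE : LocCoh.IsPowerTorsion m E) :
    LocCoh.IsPowerTorsion (m.map (algebraMap A B)) (Coext A B E) := by
  classical
  intro g
  obtain ⟨s, hs⟩ := Module.Finite.fg_top (R := A) (M := B)
  choose n hn using fun b : B => hE (toHom g b)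
  refine ⟨s.sup n, fun c hc => ?_⟩
  have hall : ∀ a ∈ m ^ s.sup n, ∀ b : B, a • toHom g b = 0 := by
    intro a ha b
    have hb : b ∈ Submodule.span A (s : Set B) := hs ▸ trivial
    induction hb using Submodule.span_induction with
    | mem x hx => exact hn x a (Ideal.pow_le_pow_right (Finset.le_sup hx) ha)
    | zero => simp
    | add x y _ _ hx hy => simp [smul_add, hx, hy]
    | smul r x _ hx => rw [map_smul, smul_comm, hx, smul_zero]
  rw [← Ideal.map_pow] at hc
  induction hc using Submodule.span_induction with
  | mem x hx =>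
    obtain ⟨a, ha, rfl⟩ := hx
    refine toHom_injective (LinearMap.ext fun b => ?_)
    rw [toHom_smul, mul_comm, ← Algebra.smul_def, map_smul, hall a ha b, toHom_zero,
      LinearMap.zero_apply]
  | zero => simp
  | add x y _ _ hx hy => rw [add_smul, hx, hy, add_zero]
  | smul r x _ hx => rw [smul_eq_mul, mul_smul, hx, smul_zero]

variable {m : Ideal A} [hm : m.IsMaximal] {f : (A ⧸ m) →ₗ[A] E}

/-- The part of the coextended hull killed by a maximal ideal is the residue field there. -/
theorem exists_socle [IsLocalRing A] [IsNoetherianRing A] [Module.Finite A B]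
    (hf : IsInjectiveHull f) (n : Ideal B) [hn : n.IsMaximal] :
    ∃ g : (B ⧸ n) →ₗ[B] Coext A B E,
      Function.Injective g ∧ LocCoh.torsionBy n (Coext A B E) ≤ LinearMap.range g := by
  let : Field (B ⧸ n) := Ideal.Quotient.field n
  have hcomap : n.comap (algebraMap A B) = m := by
    have := Algebra.IsIntegral.of_finite A B
    have hmax := Ideal.isMaximal_comap_of_isIntegral_of_isMaximal (R := A) n
    rw [IsLocalRing.eq_maximalIdeal hm, IsLocalRing.eq_maximalIdeal hmax]
  have : Module.Finite A (B ⧸ n) :=
    Module.Finite.of_surjective (Ideal.Quotient.mkₐ A n).toLinearMap Ideal.Quotient.mk_surjective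
  have hfl : IsFiniteLength A (B ⧸ n) := isFiniteLength_of_pow_smul m 1 _ fun x c hc => by
    obtain ⟨x, rfl⟩ := Ideal.Quotient.mk_surjective x
    rw [Algebra.smul_def, ← Ideal.Quotient.mk_algebraMap, ← map_mul, Ideal.Quotient.eq_zero_iff_mem]
    refine Ideal.mul_mem_right _ _ ?_
    rw [← Ideal.mem_comap, hcomap]
    simpa using hc
  obtain ⟨lam, hlam⟩ : ∃ lam : (B ⧸ n) →ₗ[A] E, lam 1 ≠ 0 := by
    by_contra h
    push Not at h
    exact one_ne_zero (eq_zero_of_forall_dual hf h)
  let T : (B ⧸ n) →ₗ[A] ((B ⧸ n) →ₗ[A] E) :=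
    (LinearMap.llcomp A _ _ _ lam).comp (LinearMap.mul A (B ⧸ n))
  have hT : Function.Injective T := (injective_iff_map_eq_zero T).mpr fun c hc => by
    by_contra h0
    apply hlam
    have := LinearMap.congr_fun hc c⁻¹
    simpa [T, mul_inv_cancel₀ h0] using this
  obtain ⟨_, _⟩ := isFiniteLength_iff_isNoetherian_isArtinian.mp (isFiniteLength_dual hf hfl)
  have hTsurj : Function.Surjective T := by
    rw [← LinearMap.range_eq_top]
    by_contra hne
    have h2 := Submodule.length_lt hne
    rw [← (LinearEquiv.ofInjective T hT).length_eq, length_dual hf hfl] at h2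
    exact lt_irrefl _ h2
  let φ0 : Coext A B E := ofHom (lam ∘ₗ (Ideal.Quotient.mkₐ A n).toLinearMap)
  have hkill : n ≤ LinearMap.ker (LinearMap.toSpanSingleton B (Coext A B E) φ0) := fun c hc =>
    toHom_injective (LinearMap.ext fun b => by
      show lam (Ideal.Quotient.mk n (b * c)) = 0
      rw [Ideal.Quotient.eq_zero_iff_mem.mpr (Ideal.mul_mem_left _ _ hc), map_zero])
  let g : (B ⧸ n) →ₗ[B] Coext A B E := Submodule.liftQ n _ hkill
  have hgapp : ∀ c b : B,
      toHom (g (Ideal.Quotient.mk n c)) b = lam (Ideal.Quotient.mk n (b * c)) := fun _ _ => rfl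
  refine ⟨g, (injective_iff_map_eq_zero g).mpr fun c hc => hT ?_, fun x hx => ?_⟩
  · refine LinearMap.ext fun b => ?_
    obtain ⟨c, rfl⟩ := Ideal.Quotient.mk_surjective c
    obtain ⟨b, rfl⟩ := Ideal.Quotient.mk_surjective b
    have h1 := hgapp c b
    rw [hc, toHom_zero, LinearMap.zero_apply] at h1
    rw [map_zero, LinearMap.zero_apply]
    show lam (Ideal.Quotient.mk n c * Ideal.Quotient.mk n b) = 0
    rw [← map_mul, mul_comm, ← h1]
  · let ψ : (B ⧸ n) →ₗ[A] E := Submodule.liftQ (n.restrictScalars A) (toHom x) (fun c hc => by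
      have h0 : (c • x : Coext A B E) = 0 := (Submodule.mem_torsionBySet_iff _ _).mp hx ⟨c, hc⟩
      have h1 : toHom (c • x) 1 = 0 := by rw [h0, toHom_zero, LinearMap.zero_apply]
      simpa using h1)
    obtain ⟨c, hc⟩ := hTsurj ψ
    obtain ⟨c, rfl⟩ := Ideal.Quotient.mk_surjective c
    refine ⟨Ideal.Quotient.mk n c, toHom_injective (LinearMap.ext fun b => ?_)⟩
    rw [hgapp, mul_comm, map_mul]
    exact LinearMap.congr_fun hc (Ideal.Quotient.mk n b)

theorem exists_isInjectiveHull [IsLocalRing A] [IsNoetherianRing A] [IsLocalRing B]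
    [Module.Finite A B] (hf : IsInjectiveHull f) :
    ∃ g : (B ⧸ IsLocalRing.maximalIdeal B) →ₗ[B] Coext A B E, IsInjectiveHull g := by
  obtain ⟨g, hg, hsoc⟩ := exists_socle (B := B) hf (IsLocalRing.maximalIdeal B)
  have hint : Algebra.IsIntegral A B := Algebra.IsIntegral.of_finite A B
  have hBN : IsNoetherianRing B := isNoetherianRing_iff.mpr (isNoetherian_of_tower A inferInstance)
  have hrad : IsLocalRing.maximalIdeal B ≤ (m.map (algebraMap A B)).radical := by
    rw [Ideal.radical_eq_sInf]
    refine le_sInf fun p ⟨hp, hpp⟩ => ?_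
    have h1 : m ≤ p.comap (algebraMap A B) := Ideal.map_le_iff_le_comap.mp hp
    have h2 : (p.comap (algebraMap A B)).IsMaximal := by
      rw [← hm.eq_of_le (Ideal.IsPrime.ne_top inferInstance) h1]; exact hm
    exact (IsLocalRing.eq_maximalIdeal (Ideal.isMaximal_of_isIntegral_of_isMaximal_comap p h2)).ge
  obtain ⟨N, hN⟩ := Ideal.exists_pow_le_of_le_radical_of_fg hrad (IsNoetherian.noetherian _)
  have htor : LocCoh.IsPowerTorsion (IsLocalRing.maximalIdeal B) (Coext A B E) := fun x => by
    obtain ⟨k, hk⟩ := isPowerTorsion_coext (B := B) (isPowerTorsion hf.toIsEssentialInj) x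
    refine ⟨N * k, fun c hc => hk c ?_⟩
    rw [pow_mul] at hc
    exact Ideal.pow_right_mono hN k hc
  have := hf.isInjective
  exact ⟨g, ⟨isEssentialInj_of_socle_le hg htor hsoc, injective_coext⟩⟩

end Groth.Agent.Lib.InjHull.Coextend
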