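import Groth.Agent.Lib.InjHull.Noeth
import Groth.Agent.Lib.InjHull.Matlis
import Mathlib.LinearAlgebra.Basis.VectorSpace
import Mathlib.LinearAlgebra.DirectSum.Finsupp

/-!
Power torsion modules with a connection over a regular system of parameters.
-/

set_option autoImplicit false
universe u

namespace Groth.Agent.Lib.InjHull.Derivations

variable {R : Type u} [CommRing R] {d : ℕ} (X : Fin d → R)
variable {M : Type u} [AddCommGroup M] [Module R M] (D : Fin d → M →+ M)

/-- The Euler operator. -/
def euler : M →+ M where
  toFun z := ∑ i, X i • D i z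
  map_zero' := by simp
  map_add' a b := by simp [smul_add, Finset.sum_add_distrib]

/-- A power torsion module embeds in a direct sum of hulls with the same socle. -/
theorem exists_socle_embedding [IsNoetherianRing R] {m : Ideal R} [m.IsMaximal] {E : Type u} [AddCommGroup E]
    [Module R E] (e : (R ⧸ m) →ₗ[R] E) (he : InjHull.IsInjectiveHull e) (hM : LocCoh.IsPowerTorsion m M) :
    ∃ (J : Type u) (ψ : M →ₗ[R] (J →₀ E)), Function.Injective ψ ∧
      ∀ w : J →₀ E, (∀ a ∈ m, a • w = 0) → ∃ z, ψ z = w := by
  classical
  let S := Submodule.torsionBySet R M (m : Set R)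
  letI : Field (R ⧸ m) := Ideal.Quotient.field m
  have hS : Module.IsTorsionBySet R S (m : Set R) := fun x a => Subtype.ext
    ((Submodule.mem_torsionBySet_iff _ _).1 x.2 a)
  letI : Module (R ⧸ m) S := hS.module
  haveI : IsScalarTower R (R ⧸ m) S := hS.isScalarTower
  let B := Module.Basis.ofVectorSpace (R ⧸ m) S
  let J := Module.Basis.ofVectorSpaceIndex (R ⧸ m) S
  let g₀ : S →ₗ[R] (J →₀ E) := Finsupp.mapRange.linearMap e ∘ₗ (B.repr.restrictScalars R).toLinearMap
  have hg₀ : Function.Injective g₀ :=
    (Finsupp.mapRange_injective e (map_zero e) he.injective).comp (B.repr.restrictScalars R).injective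
  haveI : Module.Injective R (J →₀ E) := InjHull.Basic.injective_of_equiv
    (I := DirectSum J fun _ => E) (finsuppLEquivDirectSum R E J).symm
    (InjHull.Noeth.injective_directSum (fun _ : J => E) fun _ => he.isInjective)
  obtain ⟨ψ, hψ⟩ := Module.Injective.out (S.subtype) S.injective_subtype g₀
  have hinj : Function.Injective ψ := by
    refine (injective_iff_map_eq_zero ψ).2 fun z hz => ?_
    obtain ⟨n, hn⟩ := hM z
    clear * - hn hz hψ hg₀
    induction n generalizing z with
    | zero => simpa using hn 1 (by simp)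
    | succ n ih =>
      have h1 : ∀ a ∈ m ^ n, a • z = 0 := fun a ha => by
        have hmem : a • z ∈ S := (Submodule.mem_torsionBySet_iff _ _).2 fun ⟨c, hc⟩ => by
          show c • a • z = 0
          rw [← mul_smul]
          exact hn _ (by rw [pow_succ']; exact Ideal.mul_mem_mul hc ha)
        have : g₀ ⟨a • z, hmem⟩ = 0 := (hψ ⟨a • z, hmem⟩).symm.trans (by
          show ψ (a • z) = 0
          rw [map_smul, hz, smul_zero])
        exact congrArg Subtype.val (hg₀ (this.trans (map_zero g₀).symm))
      exact ih z hz h1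
  have hsocle : ∀ w : J →₀ E, (∀ a ∈ m, a • w = 0) → ∃ z, ψ z = w := by
    intro w hw
    have hc : ∀ j, ∃ c, e c = w j := fun j => by
      have : w j ∈ LocCoh.torsionBy m E := (Submodule.mem_torsionBySet_iff _ _).2 fun ⟨a, ha⟩ => by
        show a • w j = 0
        rw [← Finsupp.smul_apply, hw a ha, Finsupp.zero_apply]
      rw [InjHull.Matlis.torsionBy_eq_range he.toIsEssentialInj] at this
      exact this
    choose c hc using hc
    let c' : J →₀ (R ⧸ m) := Finsupp.onFinset w.support c fun j hj => Finsupp.mem_support_iff.2 fun h0 =>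
      hj (he.injective ((hc j).trans (h0.trans (map_zero e).symm)))
    refine ⟨(B.repr.symm c').1, (hψ (B.repr.symm c')).trans ?_⟩
    refine Finsupp.ext fun j => ?_
    show e (B.repr (B.repr.symm c') j) = w j
    rw [LinearEquiv.apply_symm_apply]
    exact hc j
  exact ⟨J, ψ, hinj, hsocle⟩

variable (hD : ∀ (i j : Fin d) (z : M), D i (X j • z) = (if i = j then z else 0) + X j • D i z)
include hD

theorem smul_euler (j : Fin d) (z : M) : X j • euler X D z = euler X D (X j • z) - X j • z := by
  have h : euler X D (X j • z) = X j • z + X j • euler X D z := by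
    show ∑ i, X i • D i (X j • z) = X j • z + X j • ∑ i, X i • D i z
    simp only [hD, smul_add, smul_ite, smul_zero, Finset.sum_add_distrib, Finset.sum_ite_eq',
      Finset.mem_univ, if_true, Finset.smul_sum]
    congr 1
    exact Finset.sum_congr rfl fun i _ => smul_comm _ _ _
  rw [h, add_sub_cancel_left]

omit hD in
theorem forall_smul_of_span {m : Ideal R} (hm : m = Ideal.span (Set.range X)) {n : ℕ} {z : M}
    (h : ∀ j, ∀ a ∈ m ^ n, a • (X j • z) = 0) : ∀ a ∈ m ^ (n + 1), a • z = 0 := fun a ha => by
  rw [pow_succ] at ha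
  refine Submodule.mul_induction_on ha (fun r hr c hc => ?_) fun x y hx hy => by rw [add_smul, hx, hy, add_zero]
  rw [mul_smul]
  rw [hm] at hc
  induction hc using Submodule.span_induction with
  | mem x hx => obtain ⟨j, rfl⟩ := hx; exact h j r hr
  | zero => rw [zero_smul, smul_zero]
  | add x y _ _ hx hy => rw [add_smul, smul_add, hx, hy, add_zero]
  | smul t x _ hx => rw [smul_eq_mul, mul_smul, smul_comm r t, hx, smul_zero]

/-- The Euler operator is triangular on the torsion filtration. -/
theorem euler_add (m : Ideal R) (hm : m = Ideal.span (Set.range X)) : ∀ (n : ℕ) (z : M),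
    (∀ a ∈ m ^ (n + 1), a • z = 0) → ∀ a ∈ m ^ n, a • (euler X D z + ((d + n : ℕ) : R) • z) = 0 := by
  intro n
  induction n with
  | zero =>
    intro z hz a _
    have hx : ∀ i, X i • z = 0 := fun i => hz _ (by rw [pow_one, hm]; exact Ideal.subset_span ⟨i, rfl⟩)
    have h : ∀ i, X i • D i z = -z := fun i => by
      have := hD i i z
      rw [hx, map_zero, if_pos rfl] at this
      exact eq_neg_of_add_eq_zero_right this.symm
    have : euler X D z + ((d + 0 : ℕ) : R) • z = 0 := by
      show ∑ i, X i • D i z + _ = 0
      rw [Finset.sum_congr rfl fun i _ => h i, Finset.sum_const, Finset.card_univ, Fintype.card_fin,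
        add_zero, Nat.cast_smul_eq_nsmul, smul_neg, neg_add_cancel]
    rw [this, smul_zero]
  | succ n ih =>
    intro z hz
    refine forall_smul_of_span X hm fun j a ha => ?_
    have hw : ∀ a ∈ m ^ (n + 1), a • (X j • z) = 0 := fun a ha => by
      rw [← mul_smul]
      refine hz _ ?_
      rw [pow_succ (n := n + 1)]
      exact Ideal.mul_mem_mul ha (hm ▸ Ideal.subset_span ⟨j, rfl⟩)
    have key := ih (X j • z) hw a ha
    rw [smul_add (X j), smul_euler X D hD, smul_comm (X j)]
    rw [show euler X D (X j • z) - X j • z + ((d + (n + 1) : ℕ) : R) • X j • z =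
      euler X D (X j • z) + ((d + n : ℕ) : R) • X j • z by
        rw [show d + (n + 1) = (d + n) + 1 from rfl, Nat.cast_succ, add_smul, one_smul]; abel]
    exact key

/-- Such a module is a direct sum of injective hulls. -/
theorem exists_equiv [IsNoetherianRing R] {m : Ideal R} [m.IsMaximal] (hm : m = Ideal.span (Set.range X))
    (hunit : ∀ n : ℕ, n ≠ 0 → IsUnit (n : R)) {E : Type u} [AddCommGroup E] [Module R E]
    (e : (R ⧸ m) →ₗ[R] E) (he : InjHull.IsInjectiveHull e) (hM : LocCoh.IsPowerTorsion m M) :
    ∃ J : Type u, Nonempty (M ≃ₗ[R] (J →₀ E)) := by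
  classical
  obtain ⟨J, ψ, hinj, hsocle⟩ := exists_socle_embedding e he hM
  have hsurj : ∀ (n : ℕ) (w : J →₀ E), (∀ a ∈ m ^ n, a • w = 0) → ∃ z, ψ z = w := by
    intro n
    induction n with
    | zero => exact fun w hw => ⟨0, by rw [map_zero, ← one_smul R w, hw 1 (by simp)]⟩
    | succ n ih =>
      intro w hw
      rcases eq_or_ne n 0 with rfl | hn
      · exact hsocle w (by simpa using hw)
      have hXm : ∀ j, X j ∈ m := fun j => hm ▸ Ideal.subset_span ⟨j, rfl⟩
      have hwX : ∀ j, ∃ z, ψ z = X j • w := fun j => ih _ fun a ha => by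
        rw [← mul_smul]
        exact hw _ (by rw [pow_succ]; exact Ideal.mul_mem_mul ha (hXm j))
      choose g hg using hwX
      have hcomm : ∀ i j, X i • g j = X j • g i := fun i j => hinj (by
        rw [map_smul, map_smul, hg, hg, smul_comm])
      have hgn : ∀ j, ∀ a ∈ m ^ n, a • g j = 0 := fun j a ha => hinj (by
        rw [map_smul, hg, map_zero, ← mul_smul]
        exact hw _ (by rw [pow_succ]; exact Ideal.mul_mem_mul ha (hXm j)))
      obtain ⟨u, hu⟩ := hunit n hn
      let z := -((↑u⁻¹ : R) • ∑ i, D i (g i))
      obtain ⟨p, rfl⟩ : ∃ p, n = p + 1 := ⟨n - 1, by omega⟩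
      obtain ⟨z', hz'⟩ := ih (w - ψ z) (forall_smul_of_span X hm fun j a ha => by
        have key := euler_add X D hD m hm p (g j) (hgn j) a ha
        have h1 : X j • ∑ i, D i (g i) = euler X D (g j) + ((d : R) - 1) • g j := by
          have h2 : ∀ i, X j • D i (g i) = g j + X i • D i (g j) - (if i = j then g j else 0) := fun i => by
            have a1 := hD i j (g i)
            rw [hcomm j i, hD i i (g j), if_pos rfl] at a1
            rw [a1]
            split_ifs with h
            · subst h; abel
            · abel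
          rw [Finset.smul_sum, Finset.sum_congr rfl fun i _ => h2 i, Finset.sum_sub_distrib,
            Finset.sum_add_distrib, Finset.sum_const, Finset.card_univ, Fintype.card_fin,
            Finset.sum_ite_eq', if_pos (Finset.mem_univ j), sub_smul, one_smul, Nat.cast_smul_eq_nsmul]
          show d • g j + euler X D (g j) - g j = _
          abel
        have h3 : g j - X j • z = (↑u⁻¹ : R) • (euler X D (g j) + ((d + p : ℕ) : R) • g j) := by
          rw [show z = -((↑u⁻¹ : R) • ∑ i, D i (g i)) from rfl, smul_neg, sub_neg_eq_add, smul_comm (X j),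
            h1]
          conv_lhs => arg 1; rw [← one_smul R (g j), ← u.inv_mul, mul_smul, hu]
          rw [← smul_add]
          congr 1
          push_cast
          module
        rw [smul_sub (X j), ← hg, ← map_smul, ← map_sub, h3, ← map_smul, smul_comm, key, smul_zero, map_zero])
      exact ⟨z + z', by rw [map_add, hz', add_sub_cancel]⟩
  refine ⟨J, ⟨LinearEquiv.ofBijective ψ ⟨hinj, fun w => ?_⟩⟩⟩
  have hE := InjHull.Matlis.isPowerTorsion he.toIsEssentialInj
  choose n hn using fun j => hE (w j)
  exact hsurj (w.support.sup n) w fun a ha => Finsupp.ext fun j => by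
    rw [Finsupp.smul_apply, Finsupp.zero_apply]
    by_cases hj : j ∈ w.support
    · exact hn j a (Ideal.pow_le_pow_right (Finset.le_sup hj) ha)
    · rw [Finsupp.notMem_support_iff.1 hj, smul_zero]

end Groth.Agent.Lib.InjHull.Derivations
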